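import Cfsg.Agent.H46.J4Out.Main
import Cfsg.Agent.H45.J4Main

/-!
Assembly with the embedding of `M₂₄` into the presented group.
-/

set_option autoImplicit false
set_option maxRecDepth 100000

namespace Cfsg.Agent.H46.J4Out

open Cfsg Cfsg.Agent.H45

/-- the basis element `eF 0` is the word of the presentation description -/
theorem eF_zero_eq (hf : Faithful) :
    (gy * (((gy * gx) ^ 4 * gy⁻¹ * gx)⁻¹ * gt * ((gy * gx) ^ 4 * gy⁻¹ * gx))) ^ 3 = eF 0 := by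
  have ryi : R gy⁻¹ J4Rep.yiN := R.inv R_y (by decide +kernel)
  have rv := (((R_y.mul' R_x).pow 4).mul' ryi).mul' R_x
  have hv : ((gy * gx) ^ 4 * gy⁻¹ * gx)⁻¹ = gx⁻¹ * gy * (gx⁻¹ * gy⁻¹) ^ 4 := by
    rw [mul_inv_rev, mul_inv_rev, inv_inv, ← inv_pow, mul_inv_rev, mul_assoc]
  have rxi : R gx⁻¹ J4Rep.xN := R.inv R_x (by decide +kernel)
  have rvi : R ((gy * gx) ^ 4 * gy⁻¹ * gx)⁻¹
      (J4Mat.mulN 112 (J4Mat.mulN 112 J4Rep.xN J4Rep.yN)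
        (J4Mat.powN 112 (J4Mat.mulN 112 J4Rep.xN J4Rep.yiN) 4)) := by
    rw [hv]; exact (rxi.mul' R_y).mul' ((rxi.mul' ryi).pow 4)
  exact R.eq' hf ((R_y.mul' ((rvi.mul' R_t).mul' rv)).pow 3) (r_eF 0) (by decide +kernel)

theorem xP_eq : xP = ⟨J4Main.xPerm, J4Main.xPerm_mem⟩ :=
  Subtype.ext (Equiv.ext (by decide +kernel : ∀ p, Cfsg.Agent.H46.J4Out.xPerm p = J4Main.xPerm p))

theorem yP_eq : yP = ⟨J4Main.yPerm, J4Main.yPerm_mem⟩ :=
  Subtype.ext (Equiv.ext (by decide +kernel : ∀ p, Cfsg.Agent.H46.J4Out.yPerm p = J4Main.yPerm p))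

end Cfsg.Agent.H46.J4Out
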