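import Cfsg.Agent.H46.J4Out.Named

/-!
The elementary abelian 2-subgroup generated by the conjugates of `eF 0` and conjugation on it.
-/

set_option autoImplicit false
set_option maxRecDepth 100000

namespace Cfsg.Agent.H46.J4Out

open Cfsg.Agent.H45

/-- partial product of the basis elements selected by the bits of `n` -/
noncomputable def thetaAux (n : ℕ) : ℕ → J
  | 0 => 1
  | k + 1 => thetaAux n k * (if n.testBit k then eF k else 1)

/-- packed matrix of `thetaAux` -/
noncomputable def thetaNAux (n : ℕ) : ℕ → ℕ
  | 0 => J4Mat.oneN 112 112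
  | k + 1 => bif n.testBit k then J4Mat.mulN 112 (thetaNAux n k) (eN k) else thetaNAux n k

/-- product of the basis elements selected by the bits of `n` -/
noncomputable def theta (n : ℕ) : J := thetaAux n 11

/-- packed matrix of `theta` -/
noncomputable def thetaN (n : ℕ) : ℕ := thetaNAux n 11

theorem r_thetaAux (n : ℕ) : ∀ k, R (thetaAux n k) (thetaNAux n k) := by
  intro k
  induction k with
  | zero => exact R_one
  | succ k ih =>
    rw [thetaAux, thetaNAux]
    cases n.testBit k
    · simpa using ih
    · simpa using ih.mul (r_eF k) rfl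

theorem r_theta (n : ℕ) : R (theta n) (thetaN n) := r_thetaAux n 11

/-- image of a bit mask under a linear map given on the basis -/
def applyAux (M : List ℕ) (n : ℕ) : ℕ → ℕ
  | 0 => 0
  | k + 1 => applyAux M n k ^^^ (bif n.testBit k then M.getD k 0 else 0)

theorem comm_checks : ((List.range 11).all fun i => (List.range 11).all fun j =>
    J4Mat.mulN 112 (eN i) (eN j) == J4Mat.mulN 112 (eN j) (eN i)) = true := by
  decide +kernel

theorem sq_checks : ((List.range 11).all fun i =>
    J4Mat.mulN 112 (eN i) (eN i) == J4Mat.oneN 112 112) = true := by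
  decide +kernel

theorem single_checks : ((List.range 11).all fun i => thetaN (2 ^ i) == eN i) = true := by
  decide +kernel

theorem eF_of_le {k : ℕ} (h : 11 ≤ k) : eF k = 1 := by
  obtain ⟨j, rfl⟩ := Nat.exists_eq_add_of_le h
  rw [Nat.add_comm]
  rfl

variable (hf : Faithful)
include hf

theorem eF_comm (i j : ℕ) : Commute (eF i) (eF j) := by
  rcases Nat.lt_or_ge i 11 with hi | hi
  · rcases Nat.lt_or_ge j 11 with hj | hj
    · have h := List.all_eq_true.1 (List.all_eq_true.1 comm_checks i (List.mem_range.2 hi)) j
        (List.mem_range.2 hj)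
      exact R.eq' hf ((r_eF i).mul' (r_eF j)) ((r_eF j).mul' (r_eF i)) (eq_of_beq h)
    · rw [eF_of_le hj]; exact Commute.one_right _
  · rw [eF_of_le hi]; exact Commute.one_left _

theorem eF_sq (i : ℕ) : eF i * eF i = 1 := by
  rcases Nat.lt_or_ge i 11 with hi | hi
  · exact R.eq' hf ((r_eF i).mul' (r_eF i)) R_one
      (eq_of_beq (List.all_eq_true.1 sq_checks i (List.mem_range.2 hi)))
  · rw [eF_of_le hi, one_mul]

theorem theta_single {k : ℕ} (hk : k < 11) : theta (2 ^ k) = eF k :=
  R.eq' hf (r_theta _) (r_eF k)
    (eq_of_beq (List.all_eq_true.1 single_checks k (List.mem_range.2 hk)))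

theorem eF_comm_thetaAux (n k : ℕ) : ∀ m, Commute (eF k) (thetaAux n m) := by
  intro m
  induction m with
  | zero => exact Commute.one_right _
  | succ m ih =>
    rw [thetaAux]
    refine ih.mul_right ?_
    split
    · exact eF_comm hf k m
    · exact Commute.one_right _

theorem thetaAux_xor (a b : ℕ) :
    ∀ k, thetaAux (a ^^^ b) k = thetaAux a k * thetaAux b k := by
  intro k
  induction k with
  | zero => simp [thetaAux]
  | succ k ih =>
    have hc := (eF_comm_thetaAux hf b k k).eq
    simp only [thetaAux, ih, Nat.testBit_xor]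
    cases a.testBit k <;> cases b.testBit k <;>
      simp only [Bool.xor_false, Bool.xor_true, Bool.not_false, Bool.not_true, Bool.false_eq_true,
        if_false, if_true, mul_one, one_mul]
    · simp [mul_assoc]
    · rw [mul_assoc, ← hc, mul_assoc]
    · rw [mul_assoc (thetaAux a k), ← mul_assoc (eF k), hc, mul_assoc (thetaAux b k), eF_sq hf,
        mul_one]

theorem theta_xor (a b : ℕ) : theta (a ^^^ b) = theta a * theta b := thetaAux_xor hf a b 11

theorem theta_zero : theta 0 = 1 := by
  have h := theta_xor hf 0 0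
  rw [Nat.xor_self] at h
  exact left_eq_mul.1 h

omit hf in
/-- the subgroup generated by the basis -/
noncomputable def ESub : Subgroup J := Subgroup.closure (Set.range eF)

omit hf in
theorem theta_mem (n : ℕ) : theta n ∈ ESub := by
  have : ∀ k, thetaAux n k ∈ ESub := by
    intro k
    induction k with
    | zero => exact one_mem _
    | succ k ih =>
      rw [thetaAux]
      refine mul_mem ih ?_
      split
      · exact Subgroup.subset_closure ⟨k, rfl⟩
      · exact one_mem _
  exact this 11

theorem exists_theta {e : J} (he : e ∈ ESub) : ∃ n, n < 2048 ∧ theta n = e := by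
  induction he using Subgroup.closure_induction with
  | mem x hx =>
    obtain ⟨k, rfl⟩ := hx
    rcases Nat.lt_or_ge k 11 with hk | hk
    · exact ⟨2 ^ k, Nat.pow_lt_pow_right one_lt_two hk, theta_single hf hk⟩
    · exact ⟨0, by norm_num, by rw [theta_zero hf, eF_of_le hk]⟩
  | one => exact ⟨0, by norm_num, theta_zero hf⟩
  | mul x y _ _ hx hy =>
    obtain ⟨a, ha, rfl⟩ := hx
    obtain ⟨b, hb, rfl⟩ := hy
    exact ⟨a ^^^ b, Nat.xor_lt_two_pow (n := 11) ha hb, theta_xor hf a b⟩
  | inv x _ hx =>
    obtain ⟨a, ha, rfl⟩ := hx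
    refine ⟨a, ha, (inv_eq_of_mul_eq_one_left ?_).symm⟩
    rw [← theta_xor hf, Nat.xor_self, theta_zero hf]

/-- the check that conjugation by an element maps the basis as prescribed -/
theorem conj_eF {g : J} {gN : ℕ} (hg : R g gN) (M : List ℕ)
    (h : ((List.range 11).all fun k =>
      J4Mat.mulN 112 gN (eN k) == J4Mat.mulN 112 (thetaN (M.getD k 0)) gN) = true)
    {k : ℕ} (hk : k < 11) : g * eF k * g⁻¹ = theta (M.getD k 0) := by
  rw [mul_inv_eq_iff_eq_mul]
  exact R.eq' hf (hg.mul' (r_eF k)) ((r_theta _).mul' hg)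
    (eq_of_beq (List.all_eq_true.1 h k (List.mem_range.2 hk)))

theorem conj_theta {g : J} {gN : ℕ} (hg : R g gN) (M : List ℕ)
    (h : ((List.range 11).all fun k =>
      J4Mat.mulN 112 gN (eN k) == J4Mat.mulN 112 (thetaN (M.getD k 0)) gN) = true)
    (n : ℕ) : g * theta n * g⁻¹ = theta (applyAux M n 11) := by
  have : ∀ k, k ≤ 11 → g * thetaAux n k * g⁻¹ = theta (applyAux M n k) := by
    intro k
    induction k with
    | zero => intro _; simp [thetaAux, applyAux, theta_zero hf]
    | succ k ih =>
      intro hk
      rw [thetaAux, applyAux, theta_xor hf, ← ih (by omega)]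
      cases n.testBit k
      · simp [theta_zero hf]
      · have hc := conj_eF hf hg M h (show k < 11 by omega)
        simp only [if_true, cond_true, ← hc]
        group
  exact this 11 le_rfl

theorem conj_mem {g : J} {gN : ℕ} (hg : R g gN) (M : List ℕ)
    (h : ((List.range 11).all fun k =>
      J4Mat.mulN 112 gN (eN k) == J4Mat.mulN 112 (thetaN (M.getD k 0)) gN) = true)
    {e : J} (he : e ∈ ESub) : g * e * g⁻¹ ∈ ESub := by
  obtain ⟨n, -, rfl⟩ := exists_theta hf he
  rw [conj_theta hf hg M h]
  exact theta_mem _

end Cfsg.Agent.H46.J4Out
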