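import Cfsg.Agent.H46.J4Out.Elts

/-!
The centralisers of the elements of order 23 and 11.
-/

set_option autoImplicit false
set_option maxRecDepth 100000

namespace Cfsg.Agent.H46.J4Out

theorem eq_one_of_sq_of_odd {G : Type*} [Monoid G] {g : G} (h2 : g * g = 1) {k : ℕ}
    (h : g ^ (2 * k + 1) = 1) : g = 1 := by
  rwa [pow_succ, pow_mul, pow_two, h2, one_pow, one_mul] at h

namespace Hyp

variable (P : Hyp)
include P

theorem eu_pow : eu ^ 23 = 1 := P.orderOf_eu ▸ pow_orderOf_eq_one eu

theorem es_pow : es ^ 11 = 1 := P.orderOf_es ▸ pow_orderOf_eq_one es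

theorem ez_ne_one : ez ≠ 1 := fun h => by
  have := ezm_not_comm (m := 0) (by norm_num)
  simp [ezm, h] at this

theorem ed_es : Commute ed es := (ez_es P.faith).mul_left (ei_es P.faith)

theorem orderOf_ed : orderOf ed = 11 := by
  haveI : Fact (Nat.Prime 11) := ⟨by norm_num⟩
  exact orderOf_eq_prime (ed_pow P.faith) ed_ne_one

theorem ed_pow_mem {k : ℕ} (h : ed ^ k ∈ Subgroup.zpowers es) : 11 ∣ k := by
  haveI := P.finite
  by_contra hk
  obtain ⟨m, hm⟩ := exists_pow_eq_self_of_coprime (x := ed) (n := k) (by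
    rw [P.orderOf_ed]
    exact ((Nat.Prime.coprime_iff_not_dvd (by norm_num)).2 hk).symm)
  have h' : ed ∈ Subgroup.zpowers es := by rw [← hm]; exact pow_mem h m
  obtain ⟨n, hn⟩ := mem_powers_iff_mem_zpowers.2 h'
  have hn' : es ^ n = ed := hn
  rw [← pow_mod_orderOf es n, P.orderOf_es] at hn'
  exact ed_ne_pow (Nat.mod_lt _ (by norm_num)) hn'.symm

/-- the 242 elements of the centraliser of `es` -/
noncomputable def centMap (q : Fin 11 × Fin 11 × Fin 2) : Subgroup.centralizer {es} :=
  ⟨es ^ q.1.val * ed ^ q.2.1.val * ez ^ q.2.2.val,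
    Subgroup.mem_centralizer_singleton_iff.2
      ((((Commute.refl es).pow_left _).mul_left (P.ed_es.pow_left _)).mul_left
        ((ez_es P.faith).pow_left _)).eq⟩

theorem pair_pow_eleven (a b : ℕ) : (es ^ a * ed ^ b) ^ 11 = 1 := by
  rw [((P.ed_es.symm.pow_left a).pow_right b).mul_pow, ← pow_mul, ← pow_mul, Nat.mul_comm a,
    Nat.mul_comm b, pow_mul, pow_mul, P.es_pow, ed_pow P.faith, one_pow, one_pow, one_mul]

theorem ez_not_mem (i j : ℤ) : ez ≠ es ^ i * ed ^ j := by
  intro h
  have h11 : ez ^ 11 = 1 := by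
    rw [h, ((P.ed_es.symm.zpow_left i).zpow_right j).mul_pow, ← zpow_natCast, ← zpow_natCast,
      ← zpow_mul, ← zpow_mul, mul_comm i, mul_comm j, zpow_mul, zpow_mul, zpow_natCast,
      zpow_natCast, P.es_pow, ed_pow P.faith, one_zpow, one_zpow, one_mul]
  rw [show ez ^ 11 = (ez * ez) ^ 5 * ez by rw [← pow_two, ← pow_mul, ← pow_succ], ez_sq P.faith,
    one_pow, one_mul] at h11
  exact P.ez_ne_one h11

theorem centMap_injective : Function.Injective P.centMap := by
  rintro ⟨a, b, c⟩ ⟨a', b', c'⟩ h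
  have h' : es ^ a.val * ed ^ b.val * ez ^ c.val = es ^ a'.val * ed ^ b'.val * ez ^ c'.val :=
    congrArg Subtype.val h
  have hne : ∀ (a b a' b' : ℕ), es ^ a * ed ^ b ≠ es ^ a' * ed ^ b' * ez := by
    intro a b a' b' e
    refine P.ez_not_mem ((a : ℤ) - a') ((b : ℤ) - b') ?_
    rw [zpow_sub, zpow_sub, zpow_natCast, zpow_natCast, zpow_natCast, zpow_natCast]
    have hc : Commute (ed ^ b')⁻¹ (es ^ a) := ((P.ed_es.pow_left b').pow_right a).inv_left
    have hc' : Commute (ed ^ b')⁻¹ (es ^ a')⁻¹ :=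
      (((P.ed_es.pow_left b').pow_right a').inv_left).inv_right
    have hd : Commute (es ^ a')⁻¹ (ed ^ b) := ((P.ed_es.symm.pow_left a').pow_right b).inv_left
    calc ez = (ed ^ b')⁻¹ * ((es ^ a')⁻¹ * (es ^ a' * ed ^ b' * ez)) := by group
      _ = (ed ^ b')⁻¹ * ((es ^ a')⁻¹ * (es ^ a * ed ^ b)) := by rw [e]
      _ = (ed ^ b')⁻¹ * ((es ^ a * (es ^ a')⁻¹) * ed ^ b) := by
          rw [← mul_assoc (es ^ a')⁻¹, (((Commute.refl es).pow_left a').pow_right a).inv_left.eq]
      _ = es ^ a * (es ^ a')⁻¹ * ((ed ^ b')⁻¹ * ed ^ b) := by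
          rw [← mul_assoc, (hc.mul_right hc').eq, mul_assoc]
      _ = es ^ a * (es ^ a')⁻¹ * (ed ^ b * (ed ^ b')⁻¹) := by
          rw [(((Commute.refl ed).pow_left b').pow_right b).inv_left.eq]
  have hc0 : c = c' := by
    revert h'
    fin_cases c <;> fin_cases c' <;> simp only [pow_zero, pow_one, mul_one] <;> intro h'
    · trivial
    · exact absurd h' (hne _ _ _ _)
    · exact absurd h'.symm (hne _ _ _ _)
    · trivial
  subst hc0
  have h2 : es ^ a.val * ed ^ b.val = es ^ a'.val * ed ^ b'.val := mul_right_cancel h'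
  have key : ∀ (x y : ℕ) (p q : ℕ), q ≤ y → y < 11 → es ^ x * ed ^ y = es ^ p * ed ^ q → y = q := by
    intro x y p q hq hy e
    obtain ⟨d, rfl⟩ := Nat.exists_eq_add_of_le hq
    rw [Nat.add_comm, pow_add, ← mul_assoc] at e
    have hd : ed ^ d ∈ Subgroup.zpowers es := by
      rw [show ed ^ d = (es ^ x)⁻¹ * es ^ p by rw [eq_inv_mul_iff_mul_eq]; exact mul_right_cancel e]
      exact mul_mem (inv_mem (Subgroup.npow_mem_zpowers _ _)) (Subgroup.npow_mem_zpowers _ _)
    have := P.ed_pow_mem hd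
    omega
  have hb : b = b' := by
    apply Fin.ext
    rcases le_total b'.val b.val with hle | hle
    · exact key _ _ _ _ hle b.isLt h2
    · exact (key _ _ _ _ hle b'.isLt h2.symm).symm
  subst hb
  have ha : a = a' := Fin.ext (pow_injOn_Iio_orderOf (by simp [P.orderOf_es, a.isLt])
    (by simp [P.orderOf_es, a'.isLt]) (mul_right_cancel h2))
  rw [ha]

theorem centMap_bijective : Function.Bijective P.centMap := by
  haveI := P.finite
  refine (Nat.bijective_iff_injective_and_card _).2 ⟨P.centMap_injective, ?_⟩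
  have h1 := Nat.card_le_card_of_injective _ P.centMap_injective
  have h2 := P.card_cent_s
  simp only [Nat.card_prod, Nat.card_fin] at h1 ⊢
  omega

theorem ez_conj_ed : ez * ed * ez = ed⁻¹ := by
  rw [eq_inv_iff_mul_eq_one, ed]
  calc ez * (ez * ei) * ez * (ez * ei) = (ez * ez) * ei * (ez * ez) * ei := by group
    _ = 1 := by rw [ez_sq P.faith, one_mul, mul_one, ei_sq P.faith]

theorem involution_mem {g : J} (hg : g * g = 1) (hg1 : g ≠ 1) (hc : g * es = es * g) :
    ∃ m, m < 11 ∧ g = ezm m := by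
  obtain ⟨⟨a, b, c⟩, he⟩ :=
    P.centMap_bijective.2 ⟨g, Subgroup.mem_centralizer_singleton_iff.2 hc⟩
  have he' : es ^ a.val * ed ^ b.val * ez ^ c.val = g := congrArg Subtype.val he
  subst he'
  revert hg hg1 hc he
  fin_cases c <;> simp only [pow_zero, pow_one, mul_one] <;> intro hg hg1 hc he
  · exfalso
    apply hg1
    have h11 := P.pair_pow_eleven a.val b.val
    exact eq_one_of_sq_of_odd hg (k := 5) h11
  · refine ⟨b.val, b.isLt, ?_⟩
    have hz : Commute ez (es ^ a.val) := (ez_es P.faith).pow_right _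
    have hez : ez⁻¹ = ez := inv_eq_of_mul_eq_one_left (ez_sq P.faith)
    have hconj : ez * ed ^ b.val * ez = (ed ^ b.val)⁻¹ := by
      rw [← inv_pow, ← P.ez_conj_ed]
      nth_rewrite 2 [← hez]
      nth_rewrite 4 [← hez]
      rw [conj_pow]
    have h2 : es ^ (2 * a.val) = 1 := by
      rw [← hg]
      calc es ^ (2 * a.val) = es ^ a.val * (ed ^ b.val * es ^ a.val * (ed ^ b.val)⁻¹) := by
            rw [((P.ed_es.pow_left b.val).pow_right a.val).eq, mul_inv_cancel_right, two_mul, pow_add]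
        _ = es ^ a.val * (ed ^ b.val * es ^ a.val * (ez * ed ^ b.val * ez)) := by rw [hconj]
        _ = es ^ a.val * ed ^ b.val * (es ^ a.val * ez) * (ed ^ b.val * ez) := by group
        _ = es ^ a.val * ed ^ b.val * ez * (es ^ a.val * ed ^ b.val * ez) := by
            rw [← hz.eq]; group
    have ha : a.val = 0 := by
      have hd := orderOf_dvd_of_pow_eq_one h2
      rw [P.orderOf_es] at hd
      have := a.isLt
      omega
    rw [ha, pow_zero, one_mul, ezm]

theorem cent_eu : Subgroup.centralizer {eu} = Subgroup.zpowers eu := by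
  haveI := P.finite
  set C := Subgroup.centralizer {eu}
  have hle : Subgroup.zpowers eu ≤ C :=
    Subgroup.zpowers_le.2 (Subgroup.mem_centralizer_singleton_iff.2 rfl)
  have hz : Nat.card (Subgroup.zpowers eu) = 23 := by rw [Nat.card_zpowers, P.orderOf_eu]
  have hd : 23 ∣ Nat.card C := hz ▸ Subgroup.card_dvd_of_le hle
  by_contra hne
  have hlt : Nat.card (Subgroup.zpowers eu) < Nat.card C := by
    refine lt_of_le_of_ne (Subgroup.card_le_of_le hle) fun h => hne ?_
    exact (Subgroup.eq_of_le_of_card_ge hle h.ge).symm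
  have h46 := P.card_cent_u
  have hC : Nat.card C = 46 := by
    obtain ⟨k, hk⟩ := hd
    rw [hz] at hlt
    change Nat.card C ≤ 46 at h46
    omega
  haveI : Fact (Nat.Prime 2) := ⟨Nat.prime_two⟩
  obtain ⟨c, hco⟩ := exists_prime_orderOf_dvd_card' 2 (G := C) (by rw [hC]; norm_num)
  set Z := (Subgroup.zpowers eu).subgroupOf C
  have hidx : Z.index = 2 := by
    have := Z.card_mul_index
    rw [Nat.card_congr (Subgroup.subgroupOfEquivOfLe hle).toEquiv, hz, hC] at this
    omega
  have hodd : ∀ z ∈ Z, z * z = 1 → z = 1 := by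
    intro z hz' hzz
    obtain ⟨k, hk⟩ := Subgroup.mem_zpowers_iff.1 (Subgroup.mem_subgroupOf.1 hz')
    have h23 : ((z : J)) ^ 23 = 1 := by
      rw [← hk, ← zpow_natCast, ← zpow_mul, mul_comm, zpow_mul, zpow_natCast, P.eu_pow, one_zpow]
    have hzz' : (z : J) * (z : J) = 1 := congrArg Subtype.val hzz
    rw [show 23 = 2 * 11 + 1 from rfl, pow_succ, pow_mul, pow_two, hzz', one_pow, one_mul] at h23
    exact Subtype.ext h23
  have hcc : c * c = 1 := by rw [← pow_two, ← hco, pow_orderOf_eq_one]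
  have hc1 : c ≠ 1 := fun h => by rw [h, orderOf_one] at hco; norm_num at hco
  have huniq : ∀ e : C, e * e = 1 → e ≠ 1 → e = c := by
    intro e hee he1
    have heZ : e ∉ Z := fun h => he1 (hodd e h hee)
    have hcZ : c ∉ Z := fun h => hc1 (hodd c h hcc)
    have hmem : c * e ∈ Z := (Subgroup.mul_mem_iff_of_index_two hidx).2 (iff_of_false hcZ heZ)
    obtain ⟨k, hk⟩ := Subgroup.mem_zpowers_iff.1 (Subgroup.mem_subgroupOf.1 hmem)
    have hcomm : Commute (c : J) eu := Subgroup.mem_centralizer_singleton_iff.1 c.2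
    have he : (e : J) = c * eu ^ k := by
      have hccJ : (c : J) * c = 1 := congrArg Subtype.val hcc
      rw [hk, Subgroup.coe_mul, ← mul_assoc, hccJ, one_mul]
    have h2 : (c * e : C) * (c * e) = 1 := by
      apply Subtype.ext
      have hk' : ((c * e : C) : J) = eu ^ k := hk.symm
      have hee' : (e : J) * e = 1 := congrArg Subtype.val hee
      have hccJ : (c : J) * c = 1 := congrArg Subtype.val hcc
      rw [Subgroup.coe_mul, Subgroup.coe_one, hk', ← hee', he]
      calc eu ^ k * eu ^ k = (c : J) * c * eu ^ k * eu ^ k := by rw [hccJ, one_mul]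
        _ = c * (c * eu ^ k) * eu ^ k := by rw [mul_assoc (c : J)]
        _ = c * (eu ^ k * c) * eu ^ k := by rw [(hcomm.zpow_right k).eq]
        _ = c * eu ^ k * (c * eu ^ k) := by group
    have h1 := hodd _ hmem h2
    rw [mul_eq_one_iff_eq_inv] at h1
    rw [h1]
    exact (inv_eq_of_mul_eq_one_left hee).symm
  set a := es * ei
  have ha : Commute es ei := (ei_es P.faith).symm
  have hconj : a * eu * a⁻¹ = eu ^ 11 := by
    rw [mul_inv_eq_iff_eq_mul]; exact conj_eu P.faith
  have hmemc : a * (c : J) * a⁻¹ ∈ C := by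
    rw [Subgroup.mem_centralizer_singleton_iff]
    have h11 : Commute (a * (c : J) * a⁻¹) (eu ^ 11) := by
      rw [← hconj]
      exact Commute.conj_iff _ |>.2 (Subgroup.mem_centralizer_singleton_iff.1 c.2)
    have := h11.pow_right 21
    rwa [← pow_mul, show 11 * 21 = 23 * 10 + 1 from rfl, pow_succ, pow_mul, P.eu_pow, one_pow,
      one_mul] at this
  have hfix : a * (c : J) * a⁻¹ = c := by
    have := huniq ⟨_, hmemc⟩ ?_ ?_
    · exact congrArg Subtype.val this
    · apply Subtype.ext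
      have hccJ : (c : J) * c = 1 := congrArg Subtype.val hcc
      change a * (c : J) * a⁻¹ * (a * c * a⁻¹) = 1
      rw [show a * (c : J) * a⁻¹ * (a * c * a⁻¹) = a * (c * c) * a⁻¹ by group, hccJ, mul_one,
        mul_inv_cancel]
    · intro h
      apply hc1
      apply Subtype.ext
      have h' : a * (c : J) * a⁻¹ = 1 := congrArg Subtype.val h
      exact conj_eq_one_iff.1 h'
  have hca : Commute a (c : J) := mul_inv_eq_iff_eq_mul.1 hfix
  have hs : a ^ 12 = es := by
    rw [ha.mul_pow, show 12 = 11 + 1 from rfl, pow_succ, P.es_pow, one_mul,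
      show 11 + 1 = 2 * 6 from rfl, pow_mul, pow_two, ei_sq P.faith, one_pow, mul_one]
  have hcs : (c : J) * es = es * c := hs ▸ (hca.pow_left 12).eq.symm
  obtain ⟨m, hm, hcm⟩ := P.involution_mem (congrArg Subtype.val hcc)
    (fun h => hc1 (Subtype.ext h)) hcs
  exact ezm_not_comm hm (hcm ▸ Subgroup.mem_centralizer_singleton_iff.1 c.2)

end Hyp

end Cfsg.Agent.H46.J4Out
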