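import Cfsg.Agent.H45.J4Rep

/-!
Transfer of equations from packed matrices to the presented group `J4` along its representation.
-/

set_option autoImplicit false

namespace Cfsg.Agent.H46.J4Out

open Cfsg.Spor Cfsg.Agent.H45 Cfsg.Agent.H45.J4Mat Cfsg.Agent.H45.J4Rep

/-- the presented group -/
abbrev J : Type := Cfsg.Spor.J4

/-- the generator `x` -/
noncomputable def gx : J := PresentedGroup.of J4.Gen.x
/-- the generator `y` -/
noncomputable def gy : J := PresentedGroup.of J4.Gen.y
/-- the generator `t` -/
noncomputable def gt : J := PresentedGroup.of J4.Gen.t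

/-- `g` is represented by the packed matrix `n` -/
def R (g : J) (n : ℕ) : Prop :=
  ((rho g : GL112) : Matrix (Fin 112) (Fin 112) (ZMod 2)) = toMat 112 n

theorem R_x : R gx xN := by
  unfold R gx
  exact (congrArg Units.val (rho_of J4.Gen.x)).trans ux_val

theorem R_y : R gy yN := by
  unfold R gy
  exact (congrArg Units.val (rho_of J4.Gen.y)).trans uy_val

theorem R_t : R gt tN := by
  unfold R gt
  exact (congrArg Units.val (rho_of J4.Gen.t)).trans ut_val

theorem R_one : R 1 (oneN 112 112) := by
  unfold R; rw [map_one, toMat_oneN]; rfl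

theorem R.mul {g h : J} {a b c : ℕ} (ha : R g a) (hb : R h b) (e : mulN 112 a b = c) :
    R (g * h) c := by
  unfold R at *
  rw [map_mul, Units.val_mul, ha, hb, ← toMat_mulN, e]

theorem R.mul' {g h : J} {a b : ℕ} (ha : R g a) (hb : R h b) : R (g * h) (mulN 112 a b) :=
  ha.mul hb rfl

theorem R.inv {g : J} {a b : ℕ} (ha : R g a) (e : mulN 112 a b = oneN 112 112) : R g⁻¹ b := by
  unfold R at *
  rw [map_inv]
  refine Units.inv_eq_of_mul_eq_one_right ?_
  rw [ha, ← toMat_mulN, e, toMat_oneN]

theorem R.pow {g : J} {a : ℕ} (ha : R g a) (k : ℕ) : R (g ^ k) (powN 112 a k) := by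
  induction k with
  | zero => rw [pow_zero]; exact R_one
  | succ k ih => rw [pow_succ]; exact ih.mul ha rfl

/-- the representation is faithful -/
abbrev Faithful : Prop := Function.Injective rho

theorem R.eq (hf : Faithful) {g h : J} {a : ℕ} (ha : R g a) (hb : R h a) : g = h :=
  hf (Units.ext (ha.trans hb.symm))

theorem R.eq' (hf : Faithful) {g h : J} {a b : ℕ} (ha : R g a) (hb : R h b) (e : a = b) : g = h :=
  ha.eq hf (e ▸ hb)

/-- some entry of the two packed matrices differs -/
def differs (a b : ℕ) : Bool :=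
  (List.range (112 * 112)).any fun k => a.testBit k != b.testBit k

theorem R.ne {g h : J} {a b : ℕ} (ha : R g a) (hb : R h b) (k : ℕ) (hk : k < 112 * 112)
    (e : a.testBit k ≠ b.testBit k) : g ≠ h := by
  rintro rfl
  have h1 : toMat 112 a = toMat 112 b := ha.symm.trans hb
  have h2 := congrFun (congrFun h1 ⟨k / 112, Nat.div_lt_of_lt_mul hk⟩)
    ⟨k % 112, Nat.mod_lt _ (by norm_num)⟩
  simp only [toMat, Nat.div_add_mod] at h2
  revert h2 e
  cases a.testBit k <;> cases b.testBit k <;> simp [bz]

theorem R.ne' {g h : J} {a b : ℕ} (ha : R g a) (hb : R h b) (e : differs a b = true) : g ≠ h := by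
  obtain ⟨k, hk, hd⟩ := List.any_eq_true.1 e
  exact ha.ne hb k (List.mem_range.1 hk) (by simpa using hd)

/-- a nontrivial representation of a simple group is faithful -/
theorem faithful (hs : IsSimpleGroup J) : Faithful := by
  rw [Faithful, ← MonoidHom.ker_eq_bot_iff]
  refine (hs.eq_bot_or_eq_top_of_normal _ rho.normal_ker).resolve_right fun h => ?_
  have h1 : rho (PresentedGroup.of J4.Gen.x) = 1 := by
    rw [← MonoidHom.mem_ker, h]; exact Subgroup.mem_top _
  rw [rho_of] at h1
  exact ux_ne_one h1

end Cfsg.Agent.H46.J4Out
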