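import Mathlib

/-!
Fixed points of an element of prime order on cosets, from orbit sizes of a subgroup.
-/

set_option autoImplicit false

namespace Cfsg.Agent.H46.J4Out

open MulAction

/-- largest possible number of fixed points in an orbit of size `n` -/
def fixBound (q p n : ℕ) : ℕ :=
  (Finset.filter (fun d => d % p = n % p) (insert 0 q.divisors)).sup id

theorem card_normalizer_dvd {H : Type*} [Group H] [Finite H] (u : H) {p : ℕ} (hp : p.Prime)
    (hu : orderOf u = p) :
    Nat.card (Subgroup.normalizer (Subgroup.zpowers u : Set H)) ∣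
      Nat.card (Subgroup.centralizer {u}) * (p - 1) := by
  set U := Subgroup.zpowers u
  have hc : Nat.card U = p := by rw [Nat.card_zpowers, hu]
  haveI : Fact p.Prime := ⟨hp⟩
  haveI : IsCyclic U := isCyclic_of_prime_card hc
  have h1 := Subgroup.card_eq_card_quotient_mul_card_subgroup U.normalizerMonoidHom.ker
  rw [h1, Nat.mul_comm (Nat.card (Subgroup.centralizer {u}))]
  refine Nat.mul_dvd_mul ?_ ?_
  · rw [Nat.card_congr (QuotientGroup.quotientKerEquivRange _).toEquiv]
    refine (Subgroup.card_subgroup_dvd_card _).trans ?_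
    rw [IsCyclic.card_mulAut, hc, Nat.totient_prime hp]
  · rw [Subgroup.normalizerMonoidHom_ker]
    refine Subgroup.card_dvd_of_injective
      ((((Subgroup.normalizer (U : Set H)).subtype).comp
        ((Subgroup.centralizer (U : Set H)).subgroupOf _).subtype).codRestrict _ ?_) ?_
    · intro v
      have hv := Subgroup.mem_subgroupOf.1 v.2
      rw [Subgroup.mem_centralizer_singleton_iff]
      exact ((Subgroup.mem_centralizer_iff.1 hv) u (Subgroup.mem_zpowers u)).symm
    · intro a b h
      exact Subtype.ext (Subtype.ext (congrArg Subtype.val h :))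

/-- In a transitive action the fixed points of an element of order `p`, for `p` dividing the group
order exactly once, form one orbit of the normaliser. -/
theorem card_fixed_le {H : Type*} [Group H] [Finite H] {X : Type*} [MulAction H X] [Finite X]
    [IsPretransitive H X] (u : H) {p : ℕ} (hp : p.Prime) (hu : orderOf u = p)
    (hp2 : ¬ p ^ 2 ∣ Nat.card H) {q : ℕ} (hq : q ≠ 0)
    (hN : Nat.card (Subgroup.normalizer (Subgroup.zpowers u : Set H)) ∣ p * q) :
    Nat.card {x : X // u • x = x} ≤ fixBound q p (Nat.card X) := by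
  set U := Subgroup.zpowers u
  haveI : Fact p.Prime := ⟨hp⟩
  have hc : Nat.card U = p := by rw [Nat.card_zpowers, hu]
  have hmod := IsPGroup.card_modEq_card_fixedPoints (p := p) (G := U)
    (IsPGroup.of_card (n := 1) (by rw [hc, pow_one])) X
  have hset : ∀ x : X, x ∈ fixedPoints U X ↔ u • x = x := by
    intro x
    constructor
    · intro h; exact h ⟨u, Subgroup.mem_zpowers u⟩
    · rintro h ⟨v, hv⟩
      obtain ⟨k, rfl⟩ := Subgroup.mem_zpowers_iff.1 hv
      have : u ∈ stabilizer H x := h
      exact (stabilizer H x).zpow_mem this k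
  have hF : Nat.card (fixedPoints U X) = Nat.card {x : X // u • x = x} :=
    Nat.card_congr (Equiv.subtypeEquivRight hset)
  rw [hF] at hmod
  have hmem : Nat.card {x : X // u • x = x} ∈ insert 0 q.divisors := by
    rw [Finset.mem_insert, Nat.mem_divisors]
    rcases (inferInstance : Finite {x : X // u • x = x}) with ⟨-⟩
    rcases isEmpty_or_nonempty {x : X // u • x = x} with h | ⟨⟨x, hx⟩⟩
    · exact Or.inl Nat.card_of_isEmpty
    refine Or.inr ⟨?_, hq⟩
    set N := Subgroup.normalizer (U : Set H) with hNdef
    have hUx : U ≤ stabilizer H x := by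
      rw [Subgroup.zpowers_le]; exact hx
    have horb : {y : X | u • y = y} = orbit N x := by
      ext y
      constructor
      · intro hy
        obtain ⟨g, rfl⟩ := exists_smul_eq H x y
        set S := stabilizer H x
        have hg : g⁻¹ * u * g ∈ S := by
          change (g⁻¹ * u * g) • x = x
          rw [mul_smul, mul_smul, hy, inv_smul_smul]
        let P : Subgroup S := U.subgroupOf S
        let Q : Subgroup S := (Subgroup.zpowers (g⁻¹ * u * g)).subgroupOf S
        have hS : ¬ p ^ 2 ∣ Nat.card S := fun h => hp2 (h.trans (Subgroup.card_subgroup_dvd_card S))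
        have hfac : (Nat.card S).factorization p ≤ 1 := by
          by_contra hlt
          exact hS ((hp.pow_dvd_iff_le_factorization Nat.card_pos.ne').2 (by omega))
        have hpS : p ∣ Nat.card S := hc ▸ Subgroup.card_dvd_of_le hUx
        have hfac1 : (Nat.card S).factorization p = 1 :=
          le_antisymm hfac (hp.factorization_pos_of_dvd Nat.card_pos.ne' hpS)
        have hP : Nat.card P = p ^ (Nat.card S).factorization p := by
          rw [hfac1, pow_one, Nat.card_congr (Subgroup.subgroupOfEquivOfLe hUx).toEquiv, hc]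
        have hQ : Nat.card Q = p ^ (Nat.card S).factorization p := by
          rw [hfac1, pow_one, Nat.card_congr
            (Subgroup.subgroupOfEquivOfLe (Subgroup.zpowers_le.2 hg)).toEquiv, Nat.card_zpowers]
          have := orderOf_injective (MulAut.conj g⁻¹).toMonoidHom (MulEquiv.injective _) u
          simpa [hu] using this
        obtain ⟨k, hk⟩ := exists_smul_eq S (Sylow.ofCard Q hQ) (Sylow.ofCard P hP)
        have hk' : ((k : H) * (g⁻¹ * u * g) * (k : H)⁻¹) ∈ U := by
          have h1 : k * ⟨_, hg⟩ * k⁻¹ ∈ ((k • Sylow.ofCard Q hQ : Sylow p S) : Subgroup S) := by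
            rw [Sylow.coe_subgroup_smul, Sylow.coe_ofCard]
            exact ⟨⟨_, hg⟩, Subgroup.mem_subgroupOf.2 (Subgroup.mem_zpowers _), rfl⟩
          rw [hk, Sylow.coe_ofCard] at h1
          exact Subgroup.mem_subgroupOf.1 h1
        have hkN : (k : H) * g⁻¹ ∈ N := by
          refine Subgroup.mem_normalizer_fintype fun v hv => ?_
          obtain ⟨j, rfl⟩ := Subgroup.mem_zpowers_iff.1 hv
          rw [← conj_zpow]
          have : (k : H) * g⁻¹ * u * ((k : H) * g⁻¹)⁻¹ = (k : H) * (g⁻¹ * u * g) * (k : H)⁻¹ := by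
            group
          rw [this]
          exact U.zpow_mem hk' j
        refine ⟨⟨((k : H) * g⁻¹)⁻¹, inv_mem hkN⟩, ?_⟩
        change ((k : H) * g⁻¹)⁻¹ • x = g • x
        rw [mul_inv_rev, inv_inv, mul_smul, inv_smul_eq_iff.2 (k.2 : (k : H) • x = x).symm]
      · rintro ⟨⟨m, hm⟩, rfl⟩
        change u • m • x = m • x
        have h1 : m⁻¹ * u * m ∈ U := by
          have := (Subgroup.mem_normalizer_iff.1 (inv_mem hm) u).1 (Subgroup.mem_zpowers u)
          rwa [inv_inv] at this
        have h2 : (m⁻¹ * u * m) • x = x := hUx h1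
        rw [mul_smul, mul_smul, inv_smul_eq_iff] at h2
        exact h2
    have hcard : Nat.card {y : X // u • y = y} = Nat.card (orbit N x) :=
      Nat.card_congr (Equiv.setCongr horb)
    have hos : Nat.card N = Nat.card (orbit N x) * Nat.card (stabilizer N x) := by
      rw [← Nat.card_prod]; exact Nat.card_congr (orbitProdStabilizerEquivGroup N x).symm
    have hUN : U ≤ N := Subgroup.le_normalizer
    have hps : p ∣ Nat.card (stabilizer N x) := by
      rw [← hc, ← Nat.card_congr (Subgroup.subgroupOfEquivOfLe hUN).toEquiv]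
      exact Subgroup.card_dvd_of_le fun v hv => hUx hv
    rw [hcard]
    refine Nat.dvd_of_mul_dvd_mul_left hp.pos ?_
    calc p * Nat.card (orbit N x) ∣ Nat.card (stabilizer N x) * Nat.card (orbit N x) :=
          Nat.mul_dvd_mul_right hps _
      _ = Nat.card N := by rw [hos, Nat.mul_comm]
      _ ∣ p * q := hN
  exact Finset.le_sup (f := id) (Finset.mem_filter.2 ⟨hmem, hmod.symm⟩)

/-- A cover by orbits whose bounds add up to at most the number of points is exact, and bounds the
fixed points of `u`. -/
theorem card_fixed_le_sum {H : Type*} [Group H] [Finite H] {X : Type*} [MulAction H X] [Finite X]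
    (u : H) {p : ℕ} (hp : p.Prime) (hu : orderOf u = p) (hp2 : ¬ p ^ 2 ∣ Nat.card H)
    {q : ℕ} (hq : q ≠ 0)
    (hN : Nat.card (Subgroup.normalizer (Subgroup.zpowers u : Set H)) ∣ p * q)
    {ι : Type*} [Fintype ι] (r : ι → X) (n : ι → ℕ) (hcov : ∀ x : X, ∃ i, x ∈ orbit H (r i))
    (hle : ∀ i, Nat.card (orbit H (r i)) ≤ n i) (hsum : ∑ i, n i ≤ Nat.card X) :
    Nat.card {x : X // u • x = x} ≤ ∑ i, fixBound q p (n i) := by
  have hexact : ∀ i, Nat.card (orbit H (r i)) = n i := by
    have h1 : Nat.card X ≤ ∑ i, Nat.card (orbit H (r i)) := by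
      rw [← Nat.card_sigma]
      refine Nat.card_le_card_of_surjective (fun s : Σ i, orbit H (r i) => (s.2 : X)) fun x => ?_
      obtain ⟨i, hi⟩ := hcov x
      exact ⟨⟨i, ⟨x, hi⟩⟩, rfl⟩
    intro i
    refine le_antisymm (hle i) (le_of_not_gt fun hlt => ?_)
    have := Finset.sum_lt_sum (fun j _ => hle j) ⟨i, Finset.mem_univ i, hlt⟩
    omega
  calc Nat.card {x : X // u • x = x}
      ≤ Nat.card (Σ i, {y : orbit H (r i) // u • y = y}) := by
        refine Nat.card_le_card_of_surjective
          (fun s => ⟨(s.2.1 : X), congrArg Subtype.val s.2.2⟩) fun x => ?_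
        obtain ⟨i, hi⟩ := hcov x.1
        exact ⟨⟨i, ⟨⟨x.1, hi⟩, Subtype.ext x.2⟩⟩, rfl⟩
    _ = ∑ i, Nat.card {y : orbit H (r i) // u • y = y} := Nat.card_sigma
    _ ≤ ∑ i, fixBound q p (n i) := Finset.sum_le_sum fun i _ => by
        rw [← hexact i]; exact card_fixed_le u hp hu hp2 hq hN

/-- the centraliser of `u` is bounded by the fixed points times the centraliser in a subgroup -/
theorem card_centralizer_le {G : Type*} [Group G] [Finite G] (H : Subgroup G) {u : G}
    (hu : u ∈ H) :
    Nat.card (Subgroup.centralizer {u}) ≤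
      Nat.card {x : G ⧸ H // u • x = x} * Nat.card (Subgroup.centralizer {(⟨u, hu⟩ : H)}) := by
  set C := Subgroup.centralizer {u}
  set o : G ⧸ H := ((1 : G) : G ⧸ H)
  rw [← Nat.card_congr (orbitProdStabilizerEquivGroup C o), Nat.card_prod]
  refine Nat.mul_le_mul ?_ ?_
  · refine Nat.card_le_card_of_injective
      (fun y : orbit C o => (⟨y.1, ?_⟩ : {x : G ⧸ H // u • x = x})) ?_
    · obtain ⟨⟨c, hc⟩, hy⟩ := y.2
      rw [← hy]
      change u • c • o = c • o
      rw [← mul_smul, ← Subgroup.mem_centralizer_singleton_iff.1 hc, mul_smul]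
      congr 1
      change ((u * 1 : G) : G ⧸ H) = _
      rw [mul_one]
      exact QuotientGroup.eq.2 (by simpa using inv_mem hu)
    · intro a b h
      exact Subtype.ext (congrArg (fun v : {x : G ⧸ H // u • x = x} => v.1) h)
  · have hstab : ∀ c : stabilizer C o, ((c : C) : G) ∈ H := by
      intro c
      have h : (((c : C) : G) • o) = o := c.2
      have h' : ((((c : C) : G) * 1 : G) : G ⧸ H) = ((1 : G) : G ⧸ H) := h
      have := QuotientGroup.eq.1 h'
      simpa using inv_mem this
    refine Nat.card_le_card_of_injective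
      (fun c : stabilizer C o => (⟨⟨_, hstab c⟩, ?_⟩ : Subgroup.centralizer {(⟨u, hu⟩ : H)})) ?_
    · rw [Subgroup.mem_centralizer_singleton_iff]
      exact Subtype.ext (Subgroup.mem_centralizer_singleton_iff.1 (c : C).2)
    · intro a b h
      refine Subtype.ext (Subtype.ext ?_)
      exact congrArg (fun v : Subgroup.centralizer {(⟨u, hu⟩ : H)} => ((v : H) : G)) h

end Cfsg.Agent.H46.J4Out
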