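import Cfsg.Agent.H46.J4Out.HSub

/-!
Machine-checked relations between the named elements.
-/

set_option autoImplicit false
set_option maxRecDepth 100000

namespace Cfsg.Agent.H46.J4Out

open Cfsg.Agent.H45

/-- the element of order 11 commuting with `es` -/
noncomputable def ed : J := ez * ei

/-- packed matrix of `ed` -/
noncomputable def edN : ℕ := J4Mat.mulN 112 ezN eiN

theorem r_ed : R ed edN := r_ez.mul' r_ei

/-- the candidates for the image of `ez` -/
noncomputable def ezm (m : ℕ) : J := ed ^ m * ez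

/-- their packed matrices -/
noncomputable def ezmN (m : ℕ) : ℕ := J4Mat.mulN 112 (J4Mat.powN 112 edN m) ezN

theorem r_ezm (m : ℕ) : R (ezm m) (ezmN m) := (r_ed.pow m).mul' r_ez

theorem rel_check :
    J4Mat.mulN 112 ezN ezN = J4Mat.oneN 112 112 ∧ J4Mat.mulN 112 eiN eiN = J4Mat.oneN 112 112 ∧
    J4Mat.mulN 112 ezN esN = J4Mat.mulN 112 esN ezN ∧
    J4Mat.mulN 112 eiN esN = J4Mat.mulN 112 esN eiN ∧
    J4Mat.powN 112 edN 11 = J4Mat.oneN 112 112 ∧
    J4Mat.mulN 112 (J4Mat.mulN 112 esN eiN) euN =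
      J4Mat.mulN 112 (J4Mat.powN 112 euN 11) (J4Mat.mulN 112 esN eiN) := by
  decide +kernel

theorem ed_pow_check : ((List.range 11).all fun k => differs edN (J4Mat.powN 112 esN k)) = true := by
  decide +kernel

theorem ed_ne_one_check : differs edN (J4Mat.oneN 112 112) = true := by decide +kernel

theorem ezm_comm_check : ((List.range 11).all fun m =>
    differs (J4Mat.mulN 112 (ezmN m) euN) (J4Mat.mulN 112 euN (ezmN m))) = true := by
  decide +kernel

theorem true_test_check :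
    J4Mat.powN 112 (J4Mat.mulN 112 euN ezN) 23 = J4Mat.oneN 112 112 ∧
    J4Mat.powN 112 (J4Mat.mulN 112 (J4Mat.mulN 112 (J4Mat.mulN 112 (J4Mat.mulN 112 euN ezN) eiN) ezN)
      eiN) 43 = J4Mat.oneN 112 112 := by
  decide +kernel

theorem false_test_check : (([1, 2, 3, 4, 5, 6, 7, 8, 10] : List ℕ).all fun m =>
    differs (J4Mat.powN 112 (J4Mat.mulN 112 euN (ezmN m)) 23) (J4Mat.oneN 112 112)) = true ∧
    differs (J4Mat.powN 112 (J4Mat.mulN 112 (J4Mat.mulN 112 (J4Mat.mulN 112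
      (J4Mat.mulN 112 euN (ezmN 9)) eiN) (ezmN 9)) eiN) 43) (J4Mat.oneN 112 112) = true := by
  decide +kernel

variable (hf : Faithful)
include hf

theorem ez_sq : ez * ez = 1 := R.eq' hf (r_ez.mul' r_ez) R_one rel_check.1

theorem ei_sq : ei * ei = 1 := R.eq' hf (r_ei.mul' r_ei) R_one rel_check.2.1

theorem ez_es : Commute ez es := R.eq' hf (r_ez.mul' r_es) (r_es.mul' r_ez) rel_check.2.2.1

theorem ei_es : Commute ei es := R.eq' hf (r_ei.mul' r_es) (r_es.mul' r_ei) rel_check.2.2.2.1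

theorem ed_pow : ed ^ 11 = 1 := R.eq' hf (r_ed.pow 11) R_one rel_check.2.2.2.2.1

theorem conj_eu : es * ei * eu = eu ^ 11 * (es * ei) :=
  R.eq' hf ((r_es.mul' r_ei).mul' r_eu) ((r_eu.pow 11).mul' (r_es.mul' r_ei))
    rel_check.2.2.2.2.2

theorem true_test : (eu * ez) ^ 23 = 1 ∧ (eu * ez * ei * ez * ei) ^ 43 = 1 :=
  ⟨R.eq' hf ((r_eu.mul' r_ez).pow 23) R_one true_test_check.1,
   R.eq' hf (((((r_eu.mul' r_ez).mul' r_ei).mul' r_ez).mul' r_ei).pow 43) R_one true_test_check.2⟩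

omit hf in
theorem ed_ne_pow {k : ℕ} (hk : k < 11) : ed ≠ es ^ k :=
  r_ed.ne' (r_es.pow k) (List.all_eq_true.1 ed_pow_check k (List.mem_range.2 hk))

omit hf in
theorem ed_ne_one : ed ≠ 1 := r_ed.ne' R_one ed_ne_one_check

omit hf in
theorem ezm_not_comm {m : ℕ} (hm : m < 11) : ezm m * eu ≠ eu * ezm m :=
  ((r_ezm m).mul' r_eu).ne' (r_eu.mul' (r_ezm m))
    (List.all_eq_true.1 ezm_comm_check m (List.mem_range.2 hm))

omit hf in
theorem false_test {m : ℕ} (hm : m < 11) (h0 : m ≠ 0)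
    (h1 : (eu * ezm m) ^ 23 = 1) (h2 : (eu * ezm m * ei * ezm m * ei) ^ 43 = 1) : False := by
  by_cases h9 : m = 9
  · subst h9
    exact ((((((r_eu.mul' (r_ezm 9)).mul' r_ei).mul' (r_ezm 9)).mul' r_ei).pow 43).ne' R_one
      false_test_check.2) h2
  · exact (((r_eu.mul' (r_ezm m)).pow 23).ne' R_one
      (List.all_eq_true.1 false_test_check.1 m (by simp; omega))) h1

end Cfsg.Agent.H46.J4Out
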