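import Cfsg.Agent.H46.J4Out.Perm

/-!
Centralisers in the group of the code of the elements of order 23 and 11.
-/

set_option autoImplicit false
set_option maxRecDepth 100000

namespace Cfsg.Agent.H46.J4Out

open Cfsg Cfsg.Agent.Golay

theorem orderOf_uP : orderOf uP = 23 := by
  have h1 : (uP : Equiv.Perm GolayPt) (some 0) ≠ some 0 := by decide +kernel
  have h2 : ∀ p, (uPerm ^ 23) p = p := by decide +kernel
  haveI : Fact (Nat.Prime 23) := ⟨by norm_num⟩
  refine orderOf_eq_prime (Subtype.ext (Equiv.ext h2)) fun h => h1 ?_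
  rw [h]; rfl

theorem orderOf_sP : orderOf sP = 11 := by
  have h1 : (sP : Equiv.Perm GolayPt) (some 1) ≠ some 1 := by decide +kernel
  have h2 : ∀ p, (sPerm ^ 11) p = p := by decide +kernel
  haveI : Fact (Nat.Prime 11) := ⟨by norm_num⟩
  refine orderOf_eq_prime (Subtype.ext (Equiv.ext h2)) fun h => h1 ?_
  rw [h]; rfl

theorem apply_comm {τ : M24} {σ : M24} (h : σ ∈ Subgroup.centralizer {τ}) (p : GolayPt) :
    (σ : Equiv.Perm GolayPt) ((τ : Equiv.Perm GolayPt) p) =
      (τ : Equiv.Perm GolayPt) ((σ : Equiv.Perm GolayPt) p) :=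
  congrArg (fun f : M24 => (f : Equiv.Perm GolayPt) p) (Subgroup.mem_centralizer_singleton_iff.1 h)

theorem apply_iter {τ σ : M24} (h : σ ∈ Subgroup.centralizer {τ}) (p : GolayPt) :
    ∀ k : ℕ, (σ : Equiv.Perm GolayPt) ((⇑(τ : Equiv.Perm GolayPt))^[k] p) =
      (⇑(τ : Equiv.Perm GolayPt))^[k] ((σ : Equiv.Perm GolayPt) p) := by
  intro k
  induction k with
  | zero => rfl
  | succ k ih => rw [Function.iterate_succ_apply', apply_comm h, ih, Function.iterate_succ_apply']

theorem card_cent_uP : Nat.card (Subgroup.centralizer {uP}) ≤ 23 := by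
  have hfix : ∀ q : GolayPt, uPerm q = q → q = none := by decide +kernel
  have hmove : ∀ x : ZMod 23, ∃ k : Fin 23, (⇑uPerm)^[k.val] (some 0) = some x := by decide +kernel
  have hnone : ∀ σ : Subgroup.centralizer {uP}, ((σ : M24) : Equiv.Perm GolayPt) none = none := by
    intro σ
    apply hfix
    exact (apply_comm σ.2 none).symm
  calc Nat.card (Subgroup.centralizer {uP})
      ≤ Nat.card (ZMod 23) := by
        refine Nat.card_le_card_of_injective
          (fun σ => (((σ : M24) : Equiv.Perm GolayPt) (some 0)).getD 0) fun a b h => ?_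
        have hs : ∀ σ : Subgroup.centralizer {uP},
            ((σ : M24) : Equiv.Perm GolayPt) (some 0) =
              some ((((σ : M24) : Equiv.Perm GolayPt) (some 0)).getD 0) := by
          intro σ
          cases hσ : ((σ : M24) : Equiv.Perm GolayPt) (some 0) with
          | none => cases ((σ : M24) : Equiv.Perm GolayPt).injective (hσ.trans (hnone σ).symm)
          | some v => rfl
        refine Subtype.ext (Subtype.ext (Equiv.ext fun q => ?_))
        cases q with
        | none => rw [hnone, hnone]
        | some x =>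
          obtain ⟨k, hk⟩ := hmove x
          rw [← hk]
          refine (apply_iter a.2 _ _).trans (Eq.trans ?_ (apply_iter b.2 _ _).symm)
          rw [hs a, hs b]
          exact congrArg (fun v => (⇑uPerm)^[k.val] (some v)) h
    _ = 23 := by simp

/-- the exponent `k` with `12 ^ k = i` or `12 ^ k = - i` modulo 23 -/
def expOf (i : ℕ) : ℕ :=
  (((List.range 11).find? fun k => 12 ^ k % 23 == i || 12 ^ k % 23 == (23 - i)).getD 0)

/-- the table of a centralising permutation from the images of `∞, 1, -1` -/
def candTbl (a b c : ℕ) : ℕ :=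
  mkTbl 24 fun i =>
    if i = 23 then a else if i = 0 then 23 - a else
      app (Nat.rec idTbl (fun _ T => tblMul sTbl T) (expOf i))
        (if 12 ^ expOf i % 23 = i then b else c)

/-- the tables of the powers of the element of order 11 -/
def sPowers : List ℕ := (List.range 11).map fun k => Nat.rec idTbl (fun _ T => tblMul sTbl T) k

theorem cand_check : (([23, 0] : List ℕ).all fun a => (List.range 24).all fun b =>
    (List.range 24).all fun c => !inM24 (candTbl a b c) || sPowers.contains (candTbl a b c)) = true := by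
  decide +kernel

theorem iter_tbl : ∀ k : Fin 11, ∀ j : Fin 24,
    (⇑sPerm)^[k.val] (pt j.val) =
      pt (app (Nat.rec idTbl (fun _ T => tblMul sTbl T) k.val) j.val) ∧
    app (Nat.rec idTbl (fun _ T => tblMul sTbl T) k.val) j.val < 24 := by
  decide +kernel

theorem reach : ∀ j : Fin 24, j.val = 0 ∨ j.val = 23 ∨ ((j.val ≠ 0 ∧ j.val ≠ 23) ∧ expOf j.val < 11 ∧
    (⇑sPerm)^[expOf j.val] (pt (if 12 ^ expOf j.val % 23 = j.val then 1 else 22)) = pt j.val) := by
  decide +kernel

theorem mkTbl_congr : ∀ (n : ℕ) {f g : ℕ → ℕ}, (∀ i < n, f i = g i) → mkTbl n f = mkTbl n g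
  | 0, _, _, _ => rfl
  | n + 1, f, g, h => by
    rw [mkTbl, mkTbl, h 0 (Nat.succ_pos n),
      mkTbl_congr n fun i hi => h (i + 1) (Nat.succ_lt_succ hi)]

theorem tblOf_mem_sPowers {σ : M24} (h : σ ∈ Subgroup.centralizer {sP}) :
    tblOf (σ : Equiv.Perm GolayPt) ∈ sPowers := by
  set f : Equiv.Perm GolayPt := (σ : Equiv.Perm GolayPt)
  have hfix : ∀ q : GolayPt, sPerm q = q → q = pt 23 ∨ q = pt 0 := by decide +kernel
  have hs23 : sPerm (pt 23) = pt 23 := by decide +kernel
  have hs0 : sPerm (pt 0) = pt 0 := by decide +kernel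
  have h23 : f (pt 23) = pt 23 ∨ f (pt 23) = pt 0 :=
    hfix _ ((apply_comm h (pt 23)).symm.trans (congrArg f hs23))
  have h0 : f (pt 0) = pt 23 ∨ f (pt 0) = pt 0 :=
    hfix _ ((apply_comm h (pt 0)).symm.trans (congrArg f hs0))
  have hne : f (pt 23) ≠ f (pt 0) := fun he => by
    have := (pt_inj (by norm_num) (by norm_num)).1 (f.injective he)
    norm_num at this
  set a := idx (f (pt 23)) with ha
  set b := idx (f (pt 1)) with hb
  set c := idx (f (pt 22)) with hc
  have key : tblOf f = candTbl a b c := by
    refine mkTbl_congr 24 fun i hi => ?_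
    rcases reach ⟨i, hi⟩ with h1 | h1 | ⟨hi', hk, h1⟩
    · simp only at h1
      subst h1
      simp only [Nat.zero_ne_add_one, if_false, if_true]
      rcases h23 with e | e <;> rcases h0 with e' | e'
      · exact absurd (e.trans e'.symm) hne
      · rw [ha, e, e']; decide
      · rw [ha, e, e']; decide
      · exact absurd (e.trans e'.symm) hne
    · simp only at h1
      subst h1
      simp only [if_true]; exact ha.symm
    · simp only at h1 hk hi'
      obtain ⟨hi0, hi23⟩ := hi'
      rw [if_neg hi23, if_neg hi0]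
      have e1 := apply_iter h (pt (if 12 ^ expOf i % 23 = i then 1 else 22)) (expOf i)
      change f ((⇑sPerm)^[expOf i] _) = _ at e1
      rw [h1] at e1
      rw [e1]
      change idx ((⇑sPerm)^[expOf i] (f (pt _))) = _
      rw [show f (pt (if 12 ^ expOf i % 23 = i then 1 else 22)) =
          pt (if 12 ^ expOf i % 23 = i then b else c) by
        split <;> simp [hb, hc, pt_idx]]
      have hlt : (if 12 ^ expOf i % 23 = i then b else c) < 24 := by
        split <;> exact idx_lt _
      obtain ⟨e2, e3⟩ := iter_tbl ⟨expOf i, hk⟩ ⟨_, hlt⟩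
      simp only at e2 e3
      rw [e2, idx_pt _ e3]
  have hmem : inM24 (candTbl a b c) = true := by
    rw [← key, inM24_iff (validT_tblOf f), mkPerm_tblOf]; exact σ.2
  have haa : a ∈ ([23, 0] : List ℕ) := by
    rcases h23 with e | e <;> rw [ha, e] <;> decide
  have := List.all_eq_true.1 (List.all_eq_true.1 (List.all_eq_true.1 cand_check a haa) b
    (List.mem_range.2 (idx_lt _))) c (List.mem_range.2 (idx_lt _))
  rw [hmem, Bool.not_true, Bool.false_or, List.contains_iff_mem] at this
  rw [key]; exact this

theorem card_cent_sP : Nat.card (Subgroup.centralizer {sP}) ≤ 11 := by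
  calc Nat.card (Subgroup.centralizer {sP})
      ≤ Nat.card {T : ℕ // T ∈ sPowers.toFinset} := by
        refine Nat.card_le_card_of_injective
          (fun σ => ⟨tblOf ((σ : M24) : Equiv.Perm GolayPt),
            List.mem_toFinset.2 (tblOf_mem_sPowers σ.2)⟩) fun a b h => ?_
        have h' := congrArg (fun T : {T : ℕ // T ∈ sPowers.toFinset} => mkPerm T.1) h
        simp only [mkPerm_tblOf] at h'
        exact Subtype.ext (Subtype.ext h')
    _ ≤ 11 := by
        rw [Nat.card_eq_fintype_card, Fintype.card_coe]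
        exact (List.toFinset_card_le _).trans (by decide)

end Cfsg.Agent.H46.J4Out
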