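import Cfsg.Agent.Golay.CodeFacts

/-!
The permutations of the 24 points attached to the generators of `J4`.
-/

set_option autoImplicit false

namespace Cfsg.Agent.H46.J4Out

open Cfsg Cfsg.Agent.Golay

/-- table of `x` -/
def xTbl : ℕ := 397264176401722763977161013310408356
/-- table of the inverse of `x` -/
def xiTbl : ℕ := 397264176401722763977161013310408356
/-- the permutation `x` -/
def xPerm : Equiv.Perm GolayPt :=
  ⟨tblFun xTbl, tblFun xiTbl, (by decide +kernel : ∀ p, tblFun xiTbl (tblFun xTbl p) = p),
    (by decide +kernel : ∀ p, tblFun xTbl (tblFun xiTbl p) = p)⟩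
theorem xPerm_mem : xPerm ∈ M24 := mem_M24_of_tblOf (by decide +kernel)
/-- `x` as an element of the group of the code -/
def xP : M24 := ⟨xPerm, xPerm_mem⟩

/-- table of `y` -/
def yTbl : ℕ := 459074796577510901628692099449044160
/-- table of the inverse of `y` -/
def yiTbl : ℕ := 174813190190438353910486512562688704
/-- the permutation `y` -/
def yPerm : Equiv.Perm GolayPt :=
  ⟨tblFun yTbl, tblFun yiTbl, (by decide +kernel : ∀ p, tblFun yiTbl (tblFun yTbl p) = p),
    (by decide +kernel : ∀ p, tblFun yTbl (tblFun yiTbl p) = p)⟩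
theorem yPerm_mem : yPerm ∈ M24 := mem_M24_of_tblOf (by decide +kernel)
/-- `y` as an element of the group of the code -/
def yP : M24 := ⟨yPerm, yPerm_mem⟩

/-- table of `u` -/
def uTbl : ℕ := 983478296959358443554250846857397270
/-- table of the inverse of `u` -/
def uiTbl : ℕ := 956302485175575353788796878166559809
/-- the permutation `u` -/
def uPerm : Equiv.Perm GolayPt :=
  ⟨tblFun uTbl, tblFun uiTbl, (by decide +kernel : ∀ p, tblFun uiTbl (tblFun uTbl p) = p),
    (by decide +kernel : ∀ p, tblFun uTbl (tblFun uiTbl p) = p)⟩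
theorem uPerm_mem : uPerm ∈ M24 := mem_M24_of_tblOf (by decide +kernel)
/-- `u` as an element of the group of the code -/
def uP : M24 := ⟨uPerm, uPerm_mem⟩

/-- table of `s` -/
def sTbl : ℕ := 970567384681219435340729552166356352
/-- table of the inverse of `s` -/
def siTbl : ℕ := 983435072843990828779021698901151808
/-- the permutation `s` -/
def sPerm : Equiv.Perm GolayPt :=
  ⟨tblFun sTbl, tblFun siTbl, (by decide +kernel : ∀ p, tblFun siTbl (tblFun sTbl p) = p),
    (by decide +kernel : ∀ p, tblFun sTbl (tblFun siTbl p) = p)⟩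
theorem sPerm_mem : sPerm ∈ M24 := mem_M24_of_tblOf (by decide +kernel)
/-- `s` as an element of the group of the code -/
def sP : M24 := ⟨sPerm, sPerm_mem⟩

end Cfsg.Agent.H46.J4Out
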