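import Cfsg.Agent.H46.J4Out.Named
import Cfsg.Agent.H46.J4Out.Perm

/-!
Generated data: the words in `x, y` of the elements of order 23 and 11 as permutations.
-/

set_option autoImplicit false
set_option maxRecDepth 100000

namespace Cfsg.Agent.H46.J4Out

open Cfsg.Agent.H45


open Cfsg
noncomputable def P3 : M24 := xP * yP
noncomputable def P4 : M24 := yP * P3
noncomputable def P5 : M24 := P4 * P3
noncomputable def P6 : M24 := P5 * P3
noncomputable def P7 : M24 := P4 * P4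
noncomputable def P9 : M24 := P6 * P3
noncomputable def P11 : M24 := P7 * P4
noncomputable def P19 : M24 := P3 * P3
noncomputable def P21 : M24 := P6 * P11
noncomputable def P24 : M24 := P19 * P3
noncomputable def P36 : M24 := P5 * P4
noncomputable def P46 : M24 := P5 * P9
noncomputable def P111 : M24 := P7 * P11
noncomputable def P113 : M24 := P24 * P111
noncomputable def P114 : M24 := P113 * P36
noncomputable def P115 : M24 := P114 * P9
noncomputable def P116 : M24 := P115 * P111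
noncomputable def P117 : M24 := P116 * P5
noncomputable def P118 : M24 := P117 * P11
noncomputable def P119 : M24 := yP * P4
noncomputable def P120 : M24 := P119 * P21
noncomputable def P121 : M24 := P120 * P46
noncomputable def P122 : M24 := P121 * P3
noncomputable def P123 : M24 := P122 * P7
noncomputable def P124 : M24 := P123 * P9
noncomputable def P125 : M24 := P124 * P6
noncomputable def P126 : M24 := P125 * yP
section
variable (φ : M24 →* J) (hx : φ xP = gx) (hy : φ yP = gy)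
include hx hy
theorem f3 : φ P3 = g3 :=
  (map_mul φ _ _).trans (congrArg₂ (· * ·) hx hy)
theorem f4 : φ P4 = g4 :=
  (map_mul φ _ _).trans (congrArg₂ (· * ·) hy (f3 φ hx hy))
theorem f5 : φ P5 = g5 :=
  (map_mul φ _ _).trans (congrArg₂ (· * ·) (f4 φ hx hy) (f3 φ hx hy))
theorem f6 : φ P6 = g6 :=
  (map_mul φ _ _).trans (congrArg₂ (· * ·) (f5 φ hx hy) (f3 φ hx hy))
theorem f7 : φ P7 = g7 :=
  (map_mul φ _ _).trans (congrArg₂ (· * ·) (f4 φ hx hy) (f4 φ hx hy))
theorem f9 : φ P9 = g9 :=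
  (map_mul φ _ _).trans (congrArg₂ (· * ·) (f6 φ hx hy) (f3 φ hx hy))
theorem f11 : φ P11 = g11 :=
  (map_mul φ _ _).trans (congrArg₂ (· * ·) (f7 φ hx hy) (f4 φ hx hy))
theorem f19 : φ P19 = g19 :=
  (map_mul φ _ _).trans (congrArg₂ (· * ·) (f3 φ hx hy) (f3 φ hx hy))
theorem f21 : φ P21 = g21 :=
  (map_mul φ _ _).trans (congrArg₂ (· * ·) (f6 φ hx hy) (f11 φ hx hy))
theorem f24 : φ P24 = g24 :=
  (map_mul φ _ _).trans (congrArg₂ (· * ·) (f19 φ hx hy) (f3 φ hx hy))
theorem f36 : φ P36 = g36 :=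
  (map_mul φ _ _).trans (congrArg₂ (· * ·) (f5 φ hx hy) (f4 φ hx hy))
theorem f46 : φ P46 = g46 :=
  (map_mul φ _ _).trans (congrArg₂ (· * ·) (f5 φ hx hy) (f9 φ hx hy))
theorem f111 : φ P111 = g111 :=
  (map_mul φ _ _).trans (congrArg₂ (· * ·) (f7 φ hx hy) (f11 φ hx hy))
theorem f113 : φ P113 = g113 :=
  (map_mul φ _ _).trans (congrArg₂ (· * ·) (f24 φ hx hy) (f111 φ hx hy))
theorem f114 : φ P114 = g114 :=
  (map_mul φ _ _).trans (congrArg₂ (· * ·) (f113 φ hx hy) (f36 φ hx hy))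
theorem f115 : φ P115 = g115 :=
  (map_mul φ _ _).trans (congrArg₂ (· * ·) (f114 φ hx hy) (f9 φ hx hy))
theorem f116 : φ P116 = g116 :=
  (map_mul φ _ _).trans (congrArg₂ (· * ·) (f115 φ hx hy) (f111 φ hx hy))
theorem f117 : φ P117 = g117 :=
  (map_mul φ _ _).trans (congrArg₂ (· * ·) (f116 φ hx hy) (f5 φ hx hy))
theorem f118 : φ P118 = g118 :=
  (map_mul φ _ _).trans (congrArg₂ (· * ·) (f117 φ hx hy) (f11 φ hx hy))
theorem f119 : φ P119 = g119 :=
  (map_mul φ _ _).trans (congrArg₂ (· * ·) hy (f4 φ hx hy))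
theorem f120 : φ P120 = g120 :=
  (map_mul φ _ _).trans (congrArg₂ (· * ·) (f119 φ hx hy) (f21 φ hx hy))
theorem f121 : φ P121 = g121 :=
  (map_mul φ _ _).trans (congrArg₂ (· * ·) (f120 φ hx hy) (f46 φ hx hy))
theorem f122 : φ P122 = g122 :=
  (map_mul φ _ _).trans (congrArg₂ (· * ·) (f121 φ hx hy) (f3 φ hx hy))
theorem f123 : φ P123 = g123 :=
  (map_mul φ _ _).trans (congrArg₂ (· * ·) (f122 φ hx hy) (f7 φ hx hy))
theorem f124 : φ P124 = g124 :=
  (map_mul φ _ _).trans (congrArg₂ (· * ·) (f123 φ hx hy) (f9 φ hx hy))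
theorem f125 : φ P125 = g125 :=
  (map_mul φ _ _).trans (congrArg₂ (· * ·) (f124 φ hx hy) (f6 φ hx hy))
theorem f126 : φ P126 = g126 :=
  (map_mul φ _ _).trans (congrArg₂ (· * ·) (f125 φ hx hy) hy)
theorem map_uP : φ uP = eu :=
  (congrArg φ (Subtype.ext (Equiv.ext (by decide +kernel : ∀ p, (uP : Equiv.Perm GolayPt) p = (P118 : Equiv.Perm GolayPt) p)))).trans (f118 φ hx hy)
theorem map_sP : φ sP = es :=
  (congrArg φ (Subtype.ext (Equiv.ext (by decide +kernel : ∀ p, (sP : Equiv.Perm GolayPt) p = (P126 : Equiv.Perm GolayPt) p)))).trans (f126 φ hx hy)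
end

end Cfsg.Agent.H46.J4Out
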