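import Cfsg.Agent.H46.J4Out.EGroup
import Cfsg.Agent.H46.J4Out.Words
import Cfsg.Agent.H46.J4Out.MCent
import Cfsg.Agent.H46.J4Out.Count
import Cfsg.Agent.Golay.M24

/-!
The subgroup generated by `x, y` and `eF 0`, and centralisers of the elements of order 23 and 11.
-/

set_option autoImplicit false
set_option maxRecDepth 100000

namespace Cfsg.Agent.H46.J4Out

open Cfsg Cfsg.Agent.H45 Cfsg.Agent.Golay

/-- the subgroup generated by `x`, `y` and `eF 0` -/
noncomputable def HSub : Subgroup J := Subgroup.closure {gx, gy, eF 0}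

/-- facts about the presented group used for the outer automorphism group -/
structure Hyp where
  finite : Finite J
  card : Nat.card J = 86775571046077562880
  simple : IsSimpleGroup J
  phi : M24 →* J
  phi_x : phi xP = gx
  phi_y : phi yP = gy
  phi_range : phi.range ≤ Subgroup.closure {gx, gy}
  m : ℕ
  rep : Fin m → J
  size : Fin m → ℕ
  cover : ∀ p : J ⧸ HSub, ∃ i, p ∈ MulAction.orbit phi.range ((rep i : J) : J ⧸ HSub)
  size_le : ∀ i, Nat.card (MulAction.orbit phi.range ((rep i : J) : J ⧸ HSub)) ≤ size i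
  size_sum : ∑ i, size i = 173067389
  fix23 : ∑ i, fixBound 22 23 (size i) ≤ 2
  fix11 : ∑ i, fixBound 10 11 (size i) ≤ 11

theorem x_checks : ((List.range 11).all fun k =>
    J4Mat.mulN 112 J4Rep.xN (eN k) == J4Mat.mulN 112 (thetaN (Mx.getD k 0)) J4Rep.xN) = true := by
  decide +kernel

theorem y_checks : ((List.range 11).all fun k =>
    J4Mat.mulN 112 J4Rep.yN (eN k) == J4Mat.mulN 112 (thetaN (My.getD k 0)) J4Rep.yN) = true := by
  decide +kernel

theorem u_checks : ((List.range 11).all fun k =>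
    J4Mat.mulN 112 euN (eN k) == J4Mat.mulN 112 (thetaN (Mu.getD k 0)) euN) = true := by
  decide +kernel

theorem s_checks : ((List.range 11).all fun k =>
    J4Mat.mulN 112 esN (eN k) == J4Mat.mulN 112 (thetaN (Ms.getD k 0)) esN) = true := by
  decide +kernel

theorem lt_u : ((List.range 2048).all fun n => decide (applyAux Mu n 11 < 2048)) = true := by
  decide +kernel

theorem lt_s : ((List.range 2048).all fun n => decide (applyAux Ms n 11 < 2048)) = true := by
  decide +kernel

theorem fix_u : ((List.range 2048).filter fun n => applyAux Mu n 11 == n) = [0] := by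
  decide +kernel

theorem fix_s : ((List.range 2048).filter fun n => applyAux Ms n 11 == n) = [0, 900] := by
  decide +kernel

namespace Hyp

variable (P : Hyp)
include P

theorem faith : Faithful := faithful P.simple

theorem gx_range : gx ∈ P.phi.range := ⟨xP, P.phi_x⟩

theorem gy_range : gy ∈ P.phi.range := ⟨yP, P.phi_y⟩

theorem range_le_normalizer : P.phi.range ≤ Subgroup.normalizer (ESub : Set J) := by
  haveI := P.finite
  refine P.phi_range.trans ((Subgroup.closure_le _).2 ?_)
  rintro g (rfl | rfl)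
  · exact Subgroup.mem_normalizer_fintype fun e he => conj_mem P.faith R_x Mx x_checks he
  · exact Subgroup.mem_normalizer_fintype fun e he => conj_mem P.faith R_y My y_checks he

theorem hSub_eq : HSub = ESub ⊔ P.phi.range := by
  refine le_antisymm ((Subgroup.closure_le _).2 ?_) (sup_le ?_ ?_)
  · rintro g (rfl | rfl | rfl)
    · exact Subgroup.mem_sup_right P.gx_range
    · exact Subgroup.mem_sup_right P.gy_range
    · exact Subgroup.mem_sup_left (Subgroup.subset_closure ⟨0, rfl⟩)
  · refine (Subgroup.closure_le _).2 ?_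
    rintro _ ⟨k, rfl⟩
    exact eF_mem (Subgroup.subset_closure (by simp)) (Subgroup.subset_closure (by simp))
      (Subgroup.subset_closure (by simp)) k
  · exact P.phi_range.trans (Subgroup.closure_mono fun g hg => by
      rcases hg with rfl | rfl <;> simp)

theorem theta_mem_hSub (n : ℕ) : theta n ∈ HSub := by
  rw [P.hSub_eq]; exact Subgroup.mem_sup_left (theta_mem n)

theorem phi_mem_hSub (σ : M24) : P.phi σ ∈ HSub := by
  rw [P.hSub_eq]; exact Subgroup.mem_sup_right ⟨σ, rfl⟩

/-- pairs to elements of the subgroup -/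
noncomputable def pairMap (q : Fin 2048 × M24) : HSub :=
  ⟨theta q.1.val * P.phi q.2, mul_mem (P.theta_mem_hSub _) (P.phi_mem_hSub _)⟩

theorem pairMap_surjective : Function.Surjective P.pairMap := by
  rintro ⟨g, hg⟩
  rw [P.hSub_eq, ← SetLike.mem_coe,
    Subgroup.coe_mul_of_right_le_normalizer_left _ _ P.range_le_normalizer] at hg
  obtain ⟨e, he, -, ⟨σ, rfl⟩, rfl⟩ := hg
  obtain ⟨n, hn, rfl⟩ := exists_theta P.faith he
  exact ⟨(⟨n, hn⟩, σ), rfl⟩

theorem card_pairs : Nat.card (Fin 2048 × M24) = 501397585920 := by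
  rw [Nat.card_prod, Nat.card_fin, card_M24]

theorem index_le : HSub.index ≤ 173067389 := by
  haveI := P.finite
  rw [← P.size_sum, Subgroup.index]
  calc Nat.card (J ⧸ HSub)
      ≤ Nat.card (Σ i, MulAction.orbit P.phi.range ((P.rep i : J) : J ⧸ HSub)) := by
        refine Nat.card_le_card_of_surjective (fun s => (s.2 : J ⧸ HSub)) fun p => ?_
        obtain ⟨i, hi⟩ := P.cover p
        exact ⟨⟨i, ⟨p, hi⟩⟩, rfl⟩
    _ ≤ ∑ i, P.size i := by
        rw [Nat.card_sigma]; exact Finset.sum_le_sum fun i _ => P.size_le i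

theorem card_hSub : Nat.card HSub = 501397585920 := by
  haveI := P.finite
  have h := HSub.card_mul_index
  rw [P.card] at h
  have h1 := Nat.card_le_card_of_surjective _ P.pairMap_surjective
  rw [P.card_pairs] at h1
  refine le_antisymm h1 (Nat.le_of_mul_le_mul_right (?_ : 501397585920 * 173067389 ≤ Nat.card HSub * 173067389) (by norm_num))
  calc 501397585920 * 173067389 = Nat.card HSub * HSub.index := by rw [h]
    _ ≤ Nat.card HSub * 173067389 := Nat.mul_le_mul le_rfl P.index_le

theorem index_eq : HSub.index = 173067389 := by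
  have h := HSub.card_mul_index
  rw [P.card, P.card_hSub] at h
  omega

theorem pairMap_bijective : Function.Bijective P.pairMap := by
  haveI := P.finite
  exact (Nat.bijective_iff_surjective_and_card _).2
    ⟨P.pairMap_surjective, by rw [P.card_pairs, P.card_hSub]⟩

theorem pair_inj {a b : ℕ} (ha : a < 2048) (hb : b < 2048) {σ τ : M24}
    (h : theta a * P.phi σ = theta b * P.phi τ) : a = b ∧ σ = τ := by
  have := P.pairMap_bijective.1
    (a₁ := ((⟨a, ha⟩ : Fin 2048), σ)) (a₂ := ((⟨b, hb⟩ : Fin 2048), τ)) (Subtype.ext h)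
  exact ⟨congrArg (fun q : Fin 2048 × M24 => q.1.val) this, congrArg Prod.snd this⟩

theorem phi_injective : Function.Injective P.phi := fun σ τ h =>
  (P.pair_inj (a := 0) (b := 0) (by norm_num) (by norm_num) (by rw [h])).2

theorem map_u : P.phi uP = eu := map_uP P.phi P.phi_x P.phi_y

theorem map_s : P.phi sP = es := map_sP P.phi P.phi_x P.phi_y

theorem orderOf_eu : orderOf eu = 23 := by
  rw [← P.map_u, orderOf_injective P.phi P.phi_injective, orderOf_uP]

theorem orderOf_es : orderOf es = 11 := by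
  rw [← P.map_s, orderOf_injective P.phi P.phi_injective, orderOf_sP]

theorem card_cent_hSub {p : M24} {g : J} (hpg : P.phi p = g) (hgH : g ∈ HSub) {gN : ℕ}
    (hg : R g gN) (M : List ℕ)
    (hchk : ((List.range 11).all fun k =>
      J4Mat.mulN 112 gN (eN k) == J4Mat.mulN 112 (thetaN (M.getD k 0)) gN) = true)
    (hM : ((List.range 2048).all fun n => decide (applyAux M n 11 < 2048)) = true)
    (l : List ℕ) (hfix : ((List.range 2048).filter fun n => applyAux M n 11 == n) = l)
    {c : ℕ} (hc : Nat.card (Subgroup.centralizer {p}) ≤ c) :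
    Nat.card (Subgroup.centralizer {(⟨g, hgH⟩ : HSub)}) ≤ l.length * c := by
  haveI := P.finite
  have hlist : Nat.card {n : ℕ // n ∈ l.toFinset} ≤ l.length := by
    rw [Nat.card_eq_fintype_card, Fintype.card_coe]; exact List.toFinset_card_le l
  refine le_trans ?_ (Nat.mul_le_mul hlist hc)
  rw [← Nat.card_prod]
  haveI : Finite (Subgroup.centralizer {p}) := inferInstance
  refine Nat.card_le_card_of_surjective
    (fun q : {n : ℕ // n ∈ l.toFinset} × Subgroup.centralizer {p} =>
      (⟨⟨theta q.1.1 * P.phi q.2.1, mul_mem (P.theta_mem_hSub _) (P.phi_mem_hSub _)⟩, ?_⟩ :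
        Subgroup.centralizer {(⟨g, hgH⟩ : HSub)})) ?_
  · obtain ⟨⟨n, hn⟩, ⟨σ, hσ⟩⟩ := q
    rw [List.mem_toFinset, ← hfix, List.mem_filter] at hn
    rw [Subgroup.mem_centralizer_singleton_iff]
    refine Subtype.ext ?_
    change theta n * P.phi σ * g = g * (theta n * P.phi σ)
    have h1 : g * theta n = theta n * g := by
      conv_rhs => rw [← eq_of_beq hn.2, ← conj_theta P.faith hg M hchk n]
      group
    rw [mul_assoc, ← hpg, ← map_mul, Subgroup.mem_centralizer_singleton_iff.1 hσ, map_mul, hpg,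
      ← mul_assoc, ← h1, mul_assoc]
  · rintro ⟨h, hh⟩
    obtain ⟨⟨⟨n, hn⟩, σ⟩, rfl⟩ := P.pairMap_surjective h
    rw [Subgroup.mem_centralizer_singleton_iff] at hh
    have h1 : theta n * P.phi σ * g = g * (theta n * P.phi σ) := congrArg Subtype.val hh
    have h2 : theta n * P.phi (σ * p) = theta (applyAux M n 11) * P.phi (p * σ) := by
      rw [← conj_theta P.faith hg M hchk n, map_mul, map_mul, hpg, ← mul_assoc, h1]
      group
    have hlt : applyAux M n 11 < 2048 :=
      of_decide_eq_true (List.all_eq_true.1 hM n (List.mem_range.2 hn))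
    obtain ⟨e1, e2⟩ := P.pair_inj hn hlt h2
    refine ⟨(⟨n, ?_⟩, ⟨σ, Subgroup.mem_centralizer_singleton_iff.2 e2⟩), rfl⟩
    rw [List.mem_toFinset, ← hfix, List.mem_filter]
    exact ⟨List.mem_range.2 hn, beq_iff_eq.2 e1.symm⟩

theorem eu_mem : eu ∈ HSub := P.map_u ▸ P.phi_mem_hSub uP

theorem es_mem : es ∈ HSub := P.map_s ▸ P.phi_mem_hSub sP

theorem card_cent_hSub_u : Nat.card (Subgroup.centralizer {(⟨eu, P.eu_mem⟩ : HSub)}) ≤ 23 :=
  P.card_cent_hSub P.map_u P.eu_mem r_eu Mu u_checks lt_u [0] fix_u card_cent_uP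

theorem card_cent_hSub_s : Nat.card (Subgroup.centralizer {(⟨es, P.es_mem⟩ : HSub)}) ≤ 22 :=
  P.card_cent_hSub P.map_s P.es_mem r_es Ms s_checks lt_s [0, 900] fix_s card_cent_sP

theorem card_range : Nat.card P.phi.range = 244823040 := by
  rw [Nat.card_congr (MonoidHom.ofInjective P.phi_injective).toEquiv.symm, card_M24]

theorem card_cent (σ : M24) {g : J} (hσ : P.phi σ = g) (hg : g ∈ HSub) {p q c d : ℕ}
    (hp : p.Prime) (ho : orderOf g = p) (hp2 : ¬ p ^ 2 ∣ 244823040) (hq : q ≠ 0)
    (hc : Nat.card (Subgroup.centralizer {(⟨g, hg⟩ : HSub)}) ≤ c)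
    (hd : Nat.card (Subgroup.centralizer {σ}) ≤ d) (hdiv : d * (p - 1) = p * q)
    (hdp : ∀ e, 0 < e → e ≤ d → p ∣ e → e ∣ d)
    {b : ℕ} (hb : ∑ i, fixBound q p (P.size i) ≤ b) :
    Nat.card (Subgroup.centralizer {g}) ≤ b * c := by
  haveI := P.finite
  set gM : P.phi.range := ⟨g, ⟨σ, hσ⟩⟩
  have hog : orderOf gM = p := (Subgroup.orderOf_mk g _).trans ho
  have hle : Nat.card (Subgroup.centralizer {gM}) ≤ d := by
    refine le_trans ?_ hd
    refine Nat.card_le_card_of_surjective
      (fun v : Subgroup.centralizer {σ} =>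
        (⟨⟨P.phi v.1, ⟨v.1, rfl⟩⟩, ?_⟩ : Subgroup.centralizer {gM})) ?_
    · rw [Subgroup.mem_centralizer_singleton_iff]
      refine Subtype.ext ?_
      show P.phi v.1 * g = g * P.phi v.1
      rw [← hσ, ← map_mul, ← map_mul, Subgroup.mem_centralizer_singleton_iff.1 v.2]
    · rintro ⟨⟨h, τ, rfl⟩, hh⟩
      refine ⟨⟨τ, Subgroup.mem_centralizer_singleton_iff.2 (P.phi_injective ?_)⟩, rfl⟩
      have h1 : P.phi τ * g = g * P.phi τ :=
        congrArg Subtype.val (Subgroup.mem_centralizer_singleton_iff.1 hh)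
      rw [map_mul, map_mul, hσ, h1]
  have hpd : p ∣ Nat.card (Subgroup.centralizer {gM}) := by
    have := Subgroup.orderOf_dvd_natCard (Subgroup.centralizer {gM})
      (Subgroup.mem_centralizer_singleton_iff.2 (rfl : gM * gM = _))
    rwa [hog] at this
  have hN := card_normalizer_dvd gM hp hog
  have hN' := hdiv ▸ hN.trans (Nat.mul_dvd_mul_right (hdp _ Nat.card_pos hle hpd) (p - 1))
  have hfix := card_fixed_le_sum (H := P.phi.range) (X := J ⧸ HSub) gM hp hog
    (by rwa [P.card_range]) hq hN' (fun i => ((P.rep i : J) : J ⧸ HSub)) P.size P.cover P.size_le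
    (by rw [P.size_sum]; exact le_of_eq P.index_eq.symm)
  exact (card_centralizer_le HSub hg).trans (Nat.mul_le_mul (hfix.trans hb) hc)

theorem card_cent_u : Nat.card (Subgroup.centralizer {eu}) ≤ 46 :=
  P.card_cent uP P.map_u P.eu_mem (q := 22) (by norm_num) P.orderOf_eu (by norm_num) (by norm_num)
    P.card_cent_hSub_u card_cent_uP (by norm_num)
    (fun d h0 hd hdvd => by
      obtain ⟨k, rfl⟩ := hdvd
      have : k ≤ 1 := by omega
      interval_cases k <;> simp_all)
    P.fix23

theorem card_cent_s : Nat.card (Subgroup.centralizer {es}) ≤ 242 :=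
  P.card_cent sP P.map_s P.es_mem (q := 10) (by norm_num) P.orderOf_es (by norm_num) (by norm_num)
    P.card_cent_hSub_s card_cent_sP (by norm_num)
    (fun d h0 hd hdvd => by
      obtain ⟨k, rfl⟩ := hdvd
      have : k ≤ 1 := by omega
      interval_cases k <;> simp_all)
    P.fix11

end Hyp

end Cfsg.Agent.H46.J4Out
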