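import Cfsg.Agent.H46.J4Out.Cent
import Cfsg.Prelude.Def_KGroupFacts

/-!
Every automorphism of the presented group `J4` is inner, given the facts in `Hyp`.
-/

set_option autoImplicit false
set_option maxRecDepth 100000

namespace Cfsg.Agent.H46.J4Out

open Cfsg

theorem exp_exists : ∀ k : Fin 23, k.val ≠ 0 → ∃ j : Fin 22, 11 ^ j.val * k.val % 23 = 1 := by
  decide +kernel

theorem shift_exists : ∀ j : Fin 23, ∃ m : Fin 23, (20 * m.val + j.val) % 23 = 0 := by
  decide +kernel

theorem conj_pow_eu {a u : J} (h : a * u * a⁻¹ = u ^ 11) :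
    ∀ j k : ℕ, a ^ j * u ^ k * (a ^ j)⁻¹ = u ^ (11 ^ j * k) := by
  intro j
  induction j with
  | zero => intro k; simp
  | succ j ih =>
    intro k
    rw [pow_succ', mul_inv_rev,
      show a * a ^ j * u ^ k * ((a ^ j)⁻¹ * a⁻¹) = a * (a ^ j * u ^ k * (a ^ j)⁻¹) * a⁻¹ by group,
      ih, ← conj_pow, h, ← pow_mul, pow_succ']
    congr 1
    ring

namespace Hyp

variable (P : Hyp)
include P

theorem conj_ea : es * ei * eu * (es * ei)⁻¹ = eu ^ 11 := by
  rw [mul_inv_eq_iff_eq_mul]; exact conj_eu P.faith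

theorem exists_fix_eu (f : MulAut J) :
    ∃ g : J, (MulAut.conj g * f) eu = eu := by
  haveI := P.finite
  haveI : Fact (Nat.Prime 23) := ⟨by norm_num⟩
  have hz : ∀ x : J, orderOf x = 23 →
      Nat.card (Subgroup.zpowers x) = 23 ^ (Nat.card J).factorization 23 := by
    intro x hx
    have hf : (Nat.card J).factorization 23 = 1 := by
      rw [P.card]
      refine le_antisymm ?_
        (Nat.Prime.factorization_pos_of_dvd (by norm_num) (by norm_num) (by norm_num))
      by_contra hlt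
      have := ((show Nat.Prime 23 by norm_num).pow_dvd_iff_le_factorization
        (show (86775571046077562880 : ℕ) ≠ 0 by norm_num)).2 (show 2 ≤ _ by omega)
      norm_num at this
    rw [hf, pow_one, Nat.card_zpowers, hx]
  have ho : orderOf (f eu) = 23 := by
    exact (orderOf_injective f.toMonoidHom f.injective eu).trans P.orderOf_eu
  obtain ⟨g, hg⟩ := MulAction.exists_smul_eq J (Sylow.ofCard _ (hz _ ho))
    (Sylow.ofCard _ (hz _ P.orderOf_eu))
  have hmem : g * f eu * g⁻¹ ∈ Subgroup.zpowers eu := by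
    have h1 : g * f eu * g⁻¹ ∈
        ((g • Sylow.ofCard _ (hz _ ho) : Sylow 23 J) : Subgroup J) := by
      rw [Sylow.coe_subgroup_smul, Sylow.coe_ofCard]
      exact ⟨f eu, Subgroup.mem_zpowers _, rfl⟩
    rwa [hg, Sylow.coe_ofCard] at h1
  obtain ⟨k, hk⟩ := mem_powers_iff_mem_zpowers.2 hmem
  have hk' : eu ^ k = g * f eu * g⁻¹ := hk
  rw [← pow_mod_orderOf eu k, P.orderOf_eu] at hk'
  have hne : k % 23 ≠ 0 := by
    intro h0
    rw [h0, pow_zero, eq_comm, conj_eq_one_iff] at hk'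
    rw [hk', orderOf_one] at ho
    norm_num at ho
  obtain ⟨j, hj⟩ := exp_exists ⟨k % 23, Nat.mod_lt _ (by norm_num)⟩ hne
  refine ⟨(es * ei) ^ j.val * g, ?_⟩
  rw [MulAut.mul_apply, MulAut.conj_apply]
  calc (es * ei) ^ j.val * g * f eu * ((es * ei) ^ j.val * g)⁻¹
      = (es * ei) ^ j.val * (g * f eu * g⁻¹) * ((es * ei) ^ j.val)⁻¹ := by group
    _ = eu ^ (11 ^ j.val * (k % 23)) := by rw [← hk', conj_pow_eu P.conj_ea]
    _ = eu := by
        rw [← pow_mod_orderOf, P.orderOf_eu, hj, pow_one]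

theorem exists_fix_ea (f : MulAut J) (hf : f eu = eu) :
    ∃ g : J, (MulAut.conj g * f) eu = eu ∧ (MulAut.conj g * f) (es * ei) = es * ei := by
  haveI := P.finite
  set a := es * ei
  have h1 : f a * eu * (f a)⁻¹ = eu ^ 11 := by
    have := congrArg f P.conj_ea
    rwa [map_mul, map_mul, map_inv, map_pow, hf] at this
  have hmem : a⁻¹ * f a ∈ Subgroup.centralizer {eu} := by
    rw [Subgroup.mem_centralizer_singleton_iff, ← mul_inv_eq_iff_eq_mul]
    calc a⁻¹ * f a * eu * (a⁻¹ * f a)⁻¹ = a⁻¹ * (f a * eu * (f a)⁻¹) * a := by group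
      _ = a⁻¹ * (a * eu * a⁻¹) * a := by rw [h1, P.conj_ea]
      _ = eu := by group
  rw [P.cent_eu] at hmem
  obtain ⟨j, hj⟩ := mem_powers_iff_mem_zpowers.2 hmem
  have hj' : eu ^ j = a⁻¹ * f a := hj
  obtain ⟨m, hm⟩ := shift_exists ⟨j % 23, Nat.mod_lt _ (by norm_num)⟩
  have hinv : (eu ^ m.val)⁻¹ = eu ^ (22 * m.val) :=
    inv_eq_of_mul_eq_one_left (by
      rw [← pow_add, show 22 * m.val + m.val = 23 * m.val by ring, pow_mul, P.eu_pow, one_pow])
  have hpush : a⁻¹ * eu ^ m.val * a = eu ^ (21 * m.val) := by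
    have h2 : a ^ 1 * eu ^ (21 * m.val) * (a ^ 1)⁻¹ = eu ^ (11 ^ 1 * (21 * m.val)) :=
      conj_pow_eu P.conj_ea 1 (21 * m.val)
    rw [pow_one, show 11 ^ 1 * (21 * m.val) = 23 * (10 * m.val) + m.val by ring, pow_add,
      pow_mul eu 23, P.eu_pow, one_pow, one_mul] at h2
    rw [← h2]; group
  refine ⟨eu ^ m.val, ?_, ?_⟩
  · rw [MulAut.mul_apply, MulAut.conj_apply, hf, ← pow_succ, pow_succ', mul_inv_cancel_right]
  · rw [MulAut.mul_apply, MulAut.conj_apply]
    calc eu ^ m.val * f a * (eu ^ m.val)⁻¹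
        = a * (a⁻¹ * eu ^ m.val * a) * (a⁻¹ * f a) * (eu ^ m.val)⁻¹ := by group
      _ = a * eu ^ (21 * m.val) * eu ^ j * eu ^ (22 * m.val) := by rw [hpush, ← hj', hinv]
      _ = a * eu ^ ((20 * m.val + j % 23) + 23 * (j / 23 + m.val)) := by
          rw [mul_assoc a, ← pow_add, mul_assoc a, ← pow_add]
          congr 2
          have := Nat.mod_add_div j 23
          omega
      _ = a := by
          rw [pow_add, pow_mul eu 23, P.eu_pow, one_pow, mul_one]
          obtain ⟨d, hd⟩ := Nat.dvd_of_mod_eq_zero hm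
          simp only at hd
          rw [hd, pow_mul, P.eu_pow, one_pow, mul_one]

theorem eq_one_of_fix (f : MulAut J) (hu : f eu = eu) (ha : f (es * ei) = es * ei) : f = 1 := by
  have hc : Commute es ei := (ei_es P.faith).symm
  have hei2 : ei ^ 2 = 1 := by rw [pow_two, ei_sq P.faith]
  have hs : f es = es := by
    have h12 : (es * ei) ^ 12 = es := by
      rw [hc.mul_pow, show 12 = 11 + 1 from rfl, pow_succ, P.es_pow, one_mul,
        show 11 + 1 = 2 * 6 from rfl, pow_mul, hei2, one_pow, mul_one]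
    conv_lhs => rw [← h12]
    rw [map_pow, ha, h12]
  have hi : f ei = ei := by
    have := ha
    rw [map_mul, hs] at this
    exact mul_left_cancel this
  have hz1 : f ez * f ez = 1 := by rw [← map_mul, ez_sq P.faith, map_one]
  have hz2 : f ez ≠ 1 := by
    rw [ne_eq, map_eq_one_iff f f.injective]; exact P.ez_ne_one
  have hz3 : f ez * es = es * f ez := by
    have := congrArg f (ez_es P.faith).eq
    rwa [map_mul, map_mul, hs] at this
  obtain ⟨m, hm, hzm⟩ := P.involution_mem hz1 hz2 hz3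
  have hm0 : m = 0 := by
    by_contra h0
    obtain ⟨t1, t2⟩ := true_test P.faith
    refine false_test hm h0 ?_ ?_
    · have := congrArg f t1
      rwa [map_pow, map_mul, hu, hzm, map_one] at this
    · have := congrArg f t2
      simpa only [map_pow, map_mul, hu, hzm, hi, map_one] using this
  have hz : f ez = ez := by rw [hzm, hm0, ezm, pow_zero, one_mul]
  set K : Subgroup J := f.toMonoidHom.eqLocus (MonoidHom.id J)
  have hK : K = ⊤ := by
    rw [eq_top_iff, ← PresentedGroup.closure_range_of, Subgroup.closure_le]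
    rintro _ ⟨g, rfl⟩
    cases g
    · exact gx_mem P.faith (K := K) hu hs hz hi
    · exact gy_mem P.faith (K := K) hu hs hz hi
    · exact gt_mem P.faith (K := K) hu hs hz hi
  ext g
  have : g ∈ K := hK ▸ Subgroup.mem_top g
  exact this

theorem card_out : Nat.card (Cfsg.Out J) = 1 := by
  have htop : Cfsg.Inn J = ⊤ := by
    rw [eq_top_iff]
    intro f _
    obtain ⟨g, hg⟩ := P.exists_fix_eu f
    obtain ⟨g', hg1, hg2⟩ := P.exists_fix_ea _ hg
    have h := P.eq_one_of_fix _ hg1 hg2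
    have hfeq : f = (MulAut.conj g)⁻¹ * (MulAut.conj g')⁻¹ := by
      rw [← mul_inv_rev]; exact eq_inv_of_mul_eq_one_right (by rw [mul_assoc]; exact h)
    rw [hfeq]
    exact mul_mem (inv_mem ⟨g, rfl⟩) (inv_mem ⟨g', rfl⟩)
  show Nat.card (MulAut J ⧸ Cfsg.Inn J) = 1
  rw [← Subgroup.index, htop, Subgroup.index_top]

end Hyp

end Cfsg.Agent.H46.J4Out
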