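import Cfsg.Agent.H46.J4Out.Nodes3

/-!
Generated data: the named elements, membership facts and the packed data for the normal 2-subgroup.
-/

set_option autoImplicit false
set_option maxRecDepth 100000

namespace Cfsg.Agent.H46.J4Out

open Cfsg.Agent.H45


/-- the element of order 23 -/
noncomputable def eu : J := g118
/-- its packed matrix -/
def euN : ℕ := n118
theorem r_eu : R eu euN := r118
/-- the element of order 11 -/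
noncomputable def es : J := g126
/-- its packed matrix -/
def esN : ℕ := n126
theorem r_es : R es esN := r126
/-- an involution of the normal 2-subgroup centralised by `es` -/
noncomputable def ez : J := g181
/-- its packed matrix -/
def ezN : ℕ := n181
theorem r_ez : R ez ezN := r181
/-- an involution centralising `es` and inverting `eu` -/
noncomputable def ei : J := g157
/-- its packed matrix -/
def eiN : ℕ := n157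
theorem r_ei : R ei eiN := r157
/-- basis of the normal 2-subgroup -/
noncomputable def eF : ℕ → J
  | 0 => g128
  | 1 => g160
  | 2 => g162
  | 3 => g164
  | 4 => g166
  | 5 => g168
  | 6 => g170
  | 7 => g172
  | 8 => g174
  | 9 => g176
  | 10 => g178
  | _ => 1
/-- packed matrices of the basis -/
def eN : ℕ → ℕ
  | 0 => n128
  | 1 => n160
  | 2 => n162
  | 3 => n164
  | 4 => n166
  | 5 => n168
  | 6 => n170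
  | 7 => n172
  | 8 => n174
  | 9 => n176
  | 10 => n178
  | _ => J4Mat.oneN 112 112
theorem r_eF : ∀ k, R (eF k) (eN k)
  | 0 => r128
  | 1 => r160
  | 2 => r162
  | 3 => r164
  | 4 => r166
  | 5 => r168
  | 6 => r170
  | 7 => r172
  | 8 => r174
  | 9 => r176
  | 10 => r178
  | _ + 11 => R_one
/-- `ez` is a product of basis elements -/
theorem ez_eq : ez = eF 2 * eF 7 * eF 8 * eF 9 := rfl
section mem
variable {K : Subgroup J}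
theorem m158 (hx : gx ∈ K) (hy : gy ∈ K) (he : eF 0 ∈ K) : g158 ∈ K := K.mul_mem hy hy
theorem m159 (hx : gx ∈ K) (hy : gy ∈ K) (he : eF 0 ∈ K) : g159 ∈ K := K.mul_mem hx he
theorem m160 (hx : gx ∈ K) (hy : gy ∈ K) (he : eF 0 ∈ K) : g160 ∈ K := K.mul_mem (m159 hx hy he) hx
theorem m161 (hx : gx ∈ K) (hy : gy ∈ K) (he : eF 0 ∈ K) : g161 ∈ K := K.mul_mem (m158 hx hy he) (m160 hx hy he)
theorem m162 (hx : gx ∈ K) (hy : gy ∈ K) (he : eF 0 ∈ K) : g162 ∈ K := K.mul_mem (m161 hx hy he) hy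
theorem m163 (hx : gx ∈ K) (hy : gy ∈ K) (he : eF 0 ∈ K) : g163 ∈ K := K.mul_mem hx (m162 hx hy he)
theorem m164 (hx : gx ∈ K) (hy : gy ∈ K) (he : eF 0 ∈ K) : g164 ∈ K := K.mul_mem (m163 hx hy he) hx
theorem m165 (hx : gx ∈ K) (hy : gy ∈ K) (he : eF 0 ∈ K) : g165 ∈ K := K.mul_mem (m158 hx hy he) (m162 hx hy he)
theorem m166 (hx : gx ∈ K) (hy : gy ∈ K) (he : eF 0 ∈ K) : g166 ∈ K := K.mul_mem (m165 hx hy he) hy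
theorem m167 (hx : gx ∈ K) (hy : gy ∈ K) (he : eF 0 ∈ K) : g167 ∈ K := K.mul_mem (m158 hx hy he) (m164 hx hy he)
theorem m168 (hx : gx ∈ K) (hy : gy ∈ K) (he : eF 0 ∈ K) : g168 ∈ K := K.mul_mem (m167 hx hy he) hy
theorem m169 (hx : gx ∈ K) (hy : gy ∈ K) (he : eF 0 ∈ K) : g169 ∈ K := K.mul_mem hx (m166 hx hy he)
theorem m170 (hx : gx ∈ K) (hy : gy ∈ K) (he : eF 0 ∈ K) : g170 ∈ K := K.mul_mem (m169 hx hy he) hx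
theorem m171 (hx : gx ∈ K) (hy : gy ∈ K) (he : eF 0 ∈ K) : g171 ∈ K := K.mul_mem hx (m168 hx hy he)
theorem m172 (hx : gx ∈ K) (hy : gy ∈ K) (he : eF 0 ∈ K) : g172 ∈ K := K.mul_mem (m171 hx hy he) hx
theorem m173 (hx : gx ∈ K) (hy : gy ∈ K) (he : eF 0 ∈ K) : g173 ∈ K := K.mul_mem (m158 hx hy he) (m168 hx hy he)
theorem m174 (hx : gx ∈ K) (hy : gy ∈ K) (he : eF 0 ∈ K) : g174 ∈ K := K.mul_mem (m173 hx hy he) hy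
theorem m175 (hx : gx ∈ K) (hy : gy ∈ K) (he : eF 0 ∈ K) : g175 ∈ K := K.mul_mem hx (m174 hx hy he)
theorem m176 (hx : gx ∈ K) (hy : gy ∈ K) (he : eF 0 ∈ K) : g176 ∈ K := K.mul_mem (m175 hx hy he) hx
theorem m177 (hx : gx ∈ K) (hy : gy ∈ K) (he : eF 0 ∈ K) : g177 ∈ K := K.mul_mem (m158 hx hy he) (m176 hx hy he)
theorem m178 (hx : gx ∈ K) (hy : gy ∈ K) (he : eF 0 ∈ K) : g178 ∈ K := K.mul_mem (m177 hx hy he) hy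
theorem eF_mem (hx : gx ∈ K) (hy : gy ∈ K) (he : eF 0 ∈ K) : ∀ k, eF k ∈ K
  | 0 => he
  | 1 => (m160 hx hy he)
  | 2 => (m162 hx hy he)
  | 3 => (m164 hx hy he)
  | 4 => (m166 hx hy he)
  | 5 => (m168 hx hy he)
  | 6 => (m170 hx hy he)
  | 7 => (m172 hx hy he)
  | 8 => (m174 hx hy he)
  | 9 => (m176 hx hy he)
  | 10 => (m178 hx hy he)
  | _ + 11 => K.one_mem
theorem q182 (hu : eu ∈ K) (hs : es ∈ K) (hz : ez ∈ K) (hi : ei ∈ K) : g182 ∈ K := K.inv_mem hu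
theorem q183 (hu : eu ∈ K) (hs : es ∈ K) (hz : ez ∈ K) (hi : ei ∈ K) : g183 ∈ K := K.mul_mem (q182 hu hs hz hi) hz
theorem q184 (hu : eu ∈ K) (hs : es ∈ K) (hz : ez ∈ K) (hi : ei ∈ K) : g184 ∈ K := K.mul_mem (q183 hu hs hz hi) hu
theorem q185 (hu : eu ∈ K) (hs : es ∈ K) (hz : ez ∈ K) (hi : ei ∈ K) : g185 ∈ K := K.mul_mem (q182 hu hs hz hi) (q184 hu hs hz hi)
theorem q186 (hu : eu ∈ K) (hs : es ∈ K) (hz : ez ∈ K) (hi : ei ∈ K) : g186 ∈ K := K.mul_mem (q185 hu hs hz hi) hu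
theorem q187 (hu : eu ∈ K) (hs : es ∈ K) (hz : ez ∈ K) (hi : ei ∈ K) : g187 ∈ K := K.mul_mem (q182 hu hs hz hi) (q186 hu hs hz hi)
theorem q188 (hu : eu ∈ K) (hs : es ∈ K) (hz : ez ∈ K) (hi : ei ∈ K) : g188 ∈ K := K.mul_mem (q187 hu hs hz hi) hu
theorem q189 (hu : eu ∈ K) (hs : es ∈ K) (hz : ez ∈ K) (hi : ei ∈ K) : g189 ∈ K := K.inv_mem hs
theorem q190 (hu : eu ∈ K) (hs : es ∈ K) (hz : ez ∈ K) (hi : ei ∈ K) : g190 ∈ K := K.mul_mem (q189 hu hs hz hi) (q186 hu hs hz hi)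
theorem q191 (hu : eu ∈ K) (hs : es ∈ K) (hz : ez ∈ K) (hi : ei ∈ K) : g191 ∈ K := K.mul_mem (q190 hu hs hz hi) hs
theorem q192 (hu : eu ∈ K) (hs : es ∈ K) (hz : ez ∈ K) (hi : ei ∈ K) : g192 ∈ K := K.mul_mem (q189 hu hs hz hi) (q188 hu hs hz hi)
theorem q193 (hu : eu ∈ K) (hs : es ∈ K) (hz : ez ∈ K) (hi : ei ∈ K) : g193 ∈ K := K.mul_mem (q192 hu hs hz hi) hs
theorem q194 (hu : eu ∈ K) (hs : es ∈ K) (hz : ez ∈ K) (hi : ei ∈ K) : g194 ∈ K := K.mul_mem (q189 hu hs hz hi) (q191 hu hs hz hi)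
theorem q195 (hu : eu ∈ K) (hs : es ∈ K) (hz : ez ∈ K) (hi : ei ∈ K) : g195 ∈ K := K.mul_mem (q194 hu hs hz hi) hs
theorem q196 (hu : eu ∈ K) (hs : es ∈ K) (hz : ez ∈ K) (hi : ei ∈ K) : g196 ∈ K := K.mul_mem (q182 hu hs hz hi) (q193 hu hs hz hi)
theorem q197 (hu : eu ∈ K) (hs : es ∈ K) (hz : ez ∈ K) (hi : ei ∈ K) : g197 ∈ K := K.mul_mem (q196 hu hs hz hi) hu
theorem q198 (hu : eu ∈ K) (hs : es ∈ K) (hz : ez ∈ K) (hi : ei ∈ K) : g198 ∈ K := K.mul_mem (q189 hu hs hz hi) (q193 hu hs hz hi)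
theorem q199 (hu : eu ∈ K) (hs : es ∈ K) (hz : ez ∈ K) (hi : ei ∈ K) : g199 ∈ K := K.mul_mem (q198 hu hs hz hi) hs
theorem q200 (hu : eu ∈ K) (hs : es ∈ K) (hz : ez ∈ K) (hi : ei ∈ K) : g200 ∈ K := K.mul_mem (q182 hu hs hz hi) (q195 hu hs hz hi)
theorem q201 (hu : eu ∈ K) (hs : es ∈ K) (hz : ez ∈ K) (hi : ei ∈ K) : g201 ∈ K := K.mul_mem (q200 hu hs hz hi) hu
theorem q202 (hu : eu ∈ K) (hs : es ∈ K) (hz : ez ∈ K) (hi : ei ∈ K) : g202 ∈ K := K.mul_mem hz (q188 hu hs hz hi)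
theorem q203 (hu : eu ∈ K) (hs : es ∈ K) (hz : ez ∈ K) (hi : ei ∈ K) : g203 ∈ K := K.mul_mem (q184 hu hs hz hi) (q188 hu hs hz hi)
theorem q204 (hu : eu ∈ K) (hs : es ∈ K) (hz : ez ∈ K) (hi : ei ∈ K) : g204 ∈ K := K.mul_mem (q186 hu hs hz hi) (q188 hu hs hz hi)
theorem q205 (hu : eu ∈ K) (hs : es ∈ K) (hz : ez ∈ K) (hi : ei ∈ K) : g205 ∈ K := K.mul_mem (q202 hu hs hz hi) (q191 hu hs hz hi)
theorem q206 (hu : eu ∈ K) (hs : es ∈ K) (hz : ez ∈ K) (hi : ei ∈ K) : g206 ∈ K := K.mul_mem (q204 hu hs hz hi) (q191 hu hs hz hi)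
theorem q207 (hu : eu ∈ K) (hs : es ∈ K) (hz : ez ∈ K) (hi : ei ∈ K) : g207 ∈ K := K.mul_mem (q205 hu hs hz hi) (q193 hu hs hz hi)
theorem q208 (hu : eu ∈ K) (hs : es ∈ K) (hz : ez ∈ K) (hi : ei ∈ K) : g208 ∈ K := K.mul_mem (q206 hu hs hz hi) (q193 hu hs hz hi)
theorem q209 (hu : eu ∈ K) (hs : es ∈ K) (hz : ez ∈ K) (hi : ei ∈ K) : g209 ∈ K := K.mul_mem (q184 hu hs hz hi) (q195 hu hs hz hi)
theorem q210 (hu : eu ∈ K) (hs : es ∈ K) (hz : ez ∈ K) (hi : ei ∈ K) : g210 ∈ K := K.mul_mem (q203 hu hs hz hi) (q195 hu hs hz hi)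
theorem q211 (hu : eu ∈ K) (hs : es ∈ K) (hz : ez ∈ K) (hi : ei ∈ K) : g211 ∈ K := K.mul_mem (q207 hu hs hz hi) (q195 hu hs hz hi)
theorem q212 (hu : eu ∈ K) (hs : es ∈ K) (hz : ez ∈ K) (hi : ei ∈ K) : g212 ∈ K := K.mul_mem (q208 hu hs hz hi) (q195 hu hs hz hi)
theorem q213 (hu : eu ∈ K) (hs : es ∈ K) (hz : ez ∈ K) (hi : ei ∈ K) : g213 ∈ K := K.mul_mem (q209 hu hs hz hi) (q197 hu hs hz hi)
theorem q214 (hu : eu ∈ K) (hs : es ∈ K) (hz : ez ∈ K) (hi : ei ∈ K) : g214 ∈ K := K.mul_mem (q210 hu hs hz hi) (q197 hu hs hz hi)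
theorem q215 (hu : eu ∈ K) (hs : es ∈ K) (hz : ez ∈ K) (hi : ei ∈ K) : g215 ∈ K := K.mul_mem (q211 hu hs hz hi) (q197 hu hs hz hi)
theorem q216 (hu : eu ∈ K) (hs : es ∈ K) (hz : ez ∈ K) (hi : ei ∈ K) : g216 ∈ K := K.mul_mem (q212 hu hs hz hi) (q197 hu hs hz hi)
theorem q217 (hu : eu ∈ K) (hs : es ∈ K) (hz : ez ∈ K) (hi : ei ∈ K) : g217 ∈ K := K.mul_mem (q213 hu hs hz hi) (q199 hu hs hz hi)
theorem q218 (hu : eu ∈ K) (hs : es ∈ K) (hz : ez ∈ K) (hi : ei ∈ K) : g218 ∈ K := K.mul_mem (q214 hu hs hz hi) (q199 hu hs hz hi)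
theorem q219 (hu : eu ∈ K) (hs : es ∈ K) (hz : ez ∈ K) (hi : ei ∈ K) : g219 ∈ K := K.mul_mem (q216 hu hs hz hi) (q199 hu hs hz hi)
theorem q220 (hu : eu ∈ K) (hs : es ∈ K) (hz : ez ∈ K) (hi : ei ∈ K) : g220 ∈ K := K.mul_mem (q218 hu hs hz hi) (q201 hu hs hz hi)
theorem q221 (hu : eu ∈ K) (hs : es ∈ K) (hz : ez ∈ K) (hi : ei ∈ K) : g221 ∈ K := K.mul_mem (q219 hu hs hz hi) (q201 hu hs hz hi)
theorem q222 (hu : eu ∈ K) (hs : es ∈ K) (hz : ez ∈ K) (hi : ei ∈ K) : g222 ∈ K := K.mul_mem hz hz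
theorem q223 (hu : eu ∈ K) (hs : es ∈ K) (hz : ez ∈ K) (hi : ei ∈ K) : g223 ∈ K := K.mul_mem hs hs
theorem q224 (hu : eu ∈ K) (hs : es ∈ K) (hz : ez ∈ K) (hi : ei ∈ K) : g224 ∈ K := K.mul_mem (q223 hu hs hz hi) hs
theorem q225 (hu : eu ∈ K) (hs : es ∈ K) (hz : ez ∈ K) (hi : ei ∈ K) : g225 ∈ K := K.mul_mem (q224 hu hs hz hi) hs
theorem q226 (hu : eu ∈ K) (hs : es ∈ K) (hz : ez ∈ K) (hi : ei ∈ K) : g226 ∈ K := K.mul_mem hs (q222 hu hs hz hi)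
theorem q227 (hu : eu ∈ K) (hs : es ∈ K) (hz : ez ∈ K) (hi : ei ∈ K) : g227 ∈ K := K.mul_mem hi (q222 hu hs hz hi)
theorem q228 (hu : eu ∈ K) (hs : es ∈ K) (hz : ez ∈ K) (hi : ei ∈ K) : g228 ∈ K := K.mul_mem hu (q224 hu hs hz hi)
theorem q229 (hu : eu ∈ K) (hs : es ∈ K) (hz : ez ∈ K) (hi : ei ∈ K) : g229 ∈ K := K.mul_mem hz (q227 hu hs hz hi)
theorem q230 (hu : eu ∈ K) (hs : es ∈ K) (hz : ez ∈ K) (hi : ei ∈ K) : g230 ∈ K := K.mul_mem (q226 hu hs hz hi) hu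
theorem q231 (hu : eu ∈ K) (hs : es ∈ K) (hz : ez ∈ K) (hi : ei ∈ K) : g231 ∈ K := K.mul_mem (q222 hu hs hz hi) (q230 hu hs hz hi)
theorem q232 (hu : eu ∈ K) (hs : es ∈ K) (hz : ez ∈ K) (hi : ei ∈ K) : g232 ∈ K := K.mul_mem hz hs
theorem q233 (hu : eu ∈ K) (hs : es ∈ K) (hz : ez ∈ K) (hi : ei ∈ K) : g233 ∈ K := K.mul_mem (q222 hu hs hz hi) (q231 hu hs hz hi)
theorem q234 (hu : eu ∈ K) (hs : es ∈ K) (hz : ez ∈ K) (hi : ei ∈ K) : g234 ∈ K := K.mul_mem (q230 hu hs hz hi) (q222 hu hs hz hi)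
theorem q235 (hu : eu ∈ K) (hs : es ∈ K) (hz : ez ∈ K) (hi : ei ∈ K) : g235 ∈ K := K.mul_mem (q222 hu hs hz hi) (q228 hu hs hz hi)
theorem q236 (hu : eu ∈ K) (hs : es ∈ K) (hz : ez ∈ K) (hi : ei ∈ K) : g236 ∈ K := K.mul_mem (q225 hu hs hz hi) (q232 hu hs hz hi)
theorem q237 (hu : eu ∈ K) (hs : es ∈ K) (hz : ez ∈ K) (hi : ei ∈ K) : g237 ∈ K := K.mul_mem (q234 hu hs hz hi) (q235 hu hs hz hi)
theorem q238 (hu : eu ∈ K) (hs : es ∈ K) (hz : ez ∈ K) (hi : ei ∈ K) : g238 ∈ K := K.mul_mem (q230 hu hs hz hi) (q228 hu hs hz hi)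
theorem q239 (hu : eu ∈ K) (hs : es ∈ K) (hz : ez ∈ K) (hi : ei ∈ K) : g239 ∈ K := K.mul_mem (q230 hu hs hz hi) (q237 hu hs hz hi)
theorem q240 (hu : eu ∈ K) (hs : es ∈ K) (hz : ez ∈ K) (hi : ei ∈ K) : g240 ∈ K := K.mul_mem (q227 hu hs hz hi) (q237 hu hs hz hi)
theorem q241 (hu : eu ∈ K) (hs : es ∈ K) (hz : ez ∈ K) (hi : ei ∈ K) : g241 ∈ K := K.mul_mem hi (q228 hu hs hz hi)
theorem q242 (hu : eu ∈ K) (hs : es ∈ K) (hz : ez ∈ K) (hi : ei ∈ K) : g242 ∈ K := K.mul_mem (q222 hu hs hz hi) (q239 hu hs hz hi)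
theorem q243 (hu : eu ∈ K) (hs : es ∈ K) (hz : ez ∈ K) (hi : ei ∈ K) : g243 ∈ K := K.mul_mem (q231 hu hs hz hi) (q234 hu hs hz hi)
theorem q244 (hu : eu ∈ K) (hs : es ∈ K) (hz : ez ∈ K) (hi : ei ∈ K) : g244 ∈ K := K.mul_mem (q236 hu hs hz hi) (q240 hu hs hz hi)
theorem q245 (hu : eu ∈ K) (hs : es ∈ K) (hz : ez ∈ K) (hi : ei ∈ K) : g245 ∈ K := K.mul_mem (q228 hu hs hz hi) (q235 hu hs hz hi)
theorem q246 (hu : eu ∈ K) (hs : es ∈ K) (hz : ez ∈ K) (hi : ei ∈ K) : g246 ∈ K := K.mul_mem (q229 hu hs hz hi) (q228 hu hs hz hi)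
theorem q247 (hu : eu ∈ K) (hs : es ∈ K) (hz : ez ∈ K) (hi : ei ∈ K) : g247 ∈ K := K.mul_mem (q229 hu hs hz hi) (q232 hu hs hz hi)
theorem q248 (hu : eu ∈ K) (hs : es ∈ K) (hz : ez ∈ K) (hi : ei ∈ K) : g248 ∈ K := K.mul_mem (q235 hu hs hz hi) (q247 hu hs hz hi)
theorem q249 (hu : eu ∈ K) (hs : es ∈ K) (hz : ez ∈ K) (hi : ei ∈ K) : g249 ∈ K := K.mul_mem (q240 hu hs hz hi) (q247 hu hs hz hi)
theorem q250 (hu : eu ∈ K) (hs : es ∈ K) (hz : ez ∈ K) (hi : ei ∈ K) : g250 ∈ K := K.mul_mem (q233 hu hs hz hi) (q245 hu hs hz hi)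
theorem q251 (hu : eu ∈ K) (hs : es ∈ K) (hz : ez ∈ K) (hi : ei ∈ K) : g251 ∈ K := K.mul_mem (q236 hu hs hz hi) (q238 hu hs hz hi)
theorem q252 (hu : eu ∈ K) (hs : es ∈ K) (hz : ez ∈ K) (hi : ei ∈ K) : g252 ∈ K := K.mul_mem (q228 hu hs hz hi) (q239 hu hs hz hi)
theorem q253 (hu : eu ∈ K) (hs : es ∈ K) (hz : ez ∈ K) (hi : ei ∈ K) : g253 ∈ K := K.mul_mem (q252 hu hs hz hi) (q245 hu hs hz hi)
theorem q254 (hu : eu ∈ K) (hs : es ∈ K) (hz : ez ∈ K) (hi : ei ∈ K) : g254 ∈ K := K.mul_mem (q227 hu hs hz hi) (q242 hu hs hz hi)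
theorem q255 (hu : eu ∈ K) (hs : es ∈ K) (hz : ez ∈ K) (hi : ei ∈ K) : g255 ∈ K := K.mul_mem (q232 hu hs hz hi) (q242 hu hs hz hi)
theorem q256 (hu : eu ∈ K) (hs : es ∈ K) (hz : ez ∈ K) (hi : ei ∈ K) : g256 ∈ K := K.mul_mem (q224 hu hs hz hi) (q234 hu hs hz hi)
theorem q257 (hu : eu ∈ K) (hs : es ∈ K) (hz : ez ∈ K) (hi : ei ∈ K) : g257 ∈ K := K.mul_mem (q241 hu hs hz hi) (q233 hu hs hz hi)
theorem q258 (hu : eu ∈ K) (hs : es ∈ K) (hz : ez ∈ K) (hi : ei ∈ K) : g258 ∈ K := K.mul_mem (q248 hu hs hz hi) (q250 hu hs hz hi)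
theorem q259 (hu : eu ∈ K) (hs : es ∈ K) (hz : ez ∈ K) (hi : ei ∈ K) : g259 ∈ K := K.mul_mem (q222 hu hs hz hi) (q243 hu hs hz hi)
theorem q260 (hu : eu ∈ K) (hs : es ∈ K) (hz : ez ∈ K) (hi : ei ∈ K) : g260 ∈ K := K.mul_mem (q234 hu hs hz hi) (q246 hu hs hz hi)
theorem q261 (hu : eu ∈ K) (hs : es ∈ K) (hz : ez ∈ K) (hi : ei ∈ K) : g261 ∈ K := K.mul_mem (q243 hu hs hz hi) (q223 hu hs hz hi)
theorem q262 (hu : eu ∈ K) (hs : es ∈ K) (hz : ez ∈ K) (hi : ei ∈ K) : g262 ∈ K := K.mul_mem (q253 hu hs hz hi) (q242 hu hs hz hi)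
theorem q263 (hu : eu ∈ K) (hs : es ∈ K) (hz : ez ∈ K) (hi : ei ∈ K) : g263 ∈ K := K.mul_mem (q251 hu hs hz hi) (q233 hu hs hz hi)
theorem q264 (hu : eu ∈ K) (hs : es ∈ K) (hz : ez ∈ K) (hi : ei ∈ K) : g264 ∈ K := K.mul_mem (q258 hu hs hz hi) (q257 hu hs hz hi)
theorem q265 (hu : eu ∈ K) (hs : es ∈ K) (hz : ez ∈ K) (hi : ei ∈ K) : g265 ∈ K := K.mul_mem (q244 hu hs hz hi) (q233 hu hs hz hi)
theorem q266 (hu : eu ∈ K) (hs : es ∈ K) (hz : ez ∈ K) (hi : ei ∈ K) : g266 ∈ K := K.mul_mem (q255 hu hs hz hi) (q254 hu hs hz hi)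
theorem q267 (hu : eu ∈ K) (hs : es ∈ K) (hz : ez ∈ K) (hi : ei ∈ K) : g267 ∈ K := K.mul_mem (q257 hu hs hz hi) (q266 hu hs hz hi)
theorem q268 (hu : eu ∈ K) (hs : es ∈ K) (hz : ez ∈ K) (hi : ei ∈ K) : g268 ∈ K := K.mul_mem (q249 hu hs hz hi) (q262 hu hs hz hi)
theorem q269 (hu : eu ∈ K) (hs : es ∈ K) (hz : ez ∈ K) (hi : ei ∈ K) : g269 ∈ K := K.mul_mem (q254 hu hs hz hi) (q261 hu hs hz hi)
theorem q270 (hu : eu ∈ K) (hs : es ∈ K) (hz : ez ∈ K) (hi : ei ∈ K) : g270 ∈ K := K.mul_mem (q268 hu hs hz hi) (q223 hu hs hz hi)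
theorem q271 (hu : eu ∈ K) (hs : es ∈ K) (hz : ez ∈ K) (hi : ei ∈ K) : g271 ∈ K := K.mul_mem (q231 hu hs hz hi) (q226 hu hs hz hi)
theorem q272 (hu : eu ∈ K) (hs : es ∈ K) (hz : ez ∈ K) (hi : ei ∈ K) : g272 ∈ K := K.mul_mem (q230 hu hs hz hi) (q269 hu hs hz hi)
theorem q273 (hu : eu ∈ K) (hs : es ∈ K) (hz : ez ∈ K) (hi : ei ∈ K) : g273 ∈ K := K.mul_mem (q256 hu hs hz hi) (q260 hu hs hz hi)
theorem q274 (hu : eu ∈ K) (hs : es ∈ K) (hz : ez ∈ K) (hi : ei ∈ K) : g274 ∈ K := K.mul_mem (q267 hu hs hz hi) (q270 hu hs hz hi)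
theorem q275 (hu : eu ∈ K) (hs : es ∈ K) (hz : ez ∈ K) (hi : ei ∈ K) : g275 ∈ K := K.mul_mem (q223 hu hs hz hi) (q264 hu hs hz hi)
theorem q276 (hu : eu ∈ K) (hs : es ∈ K) (hz : ez ∈ K) (hi : ei ∈ K) : g276 ∈ K := K.mul_mem (q274 hu hs hz hi) (q273 hu hs hz hi)
theorem q277 (hu : eu ∈ K) (hs : es ∈ K) (hz : ez ∈ K) (hi : ei ∈ K) : g277 ∈ K := K.mul_mem (q272 hu hs hz hi) (q246 hu hs hz hi)
theorem q278 (hu : eu ∈ K) (hs : es ∈ K) (hz : ez ∈ K) (hi : ei ∈ K) : g278 ∈ K := K.mul_mem (q275 hu hs hz hi) (q259 hu hs hz hi)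
theorem q279 (hu : eu ∈ K) (hs : es ∈ K) (hz : ez ∈ K) (hi : ei ∈ K) : g279 ∈ K := K.mul_mem (q271 hu hs hz hi) (q263 hu hs hz hi)
theorem q280 (hu : eu ∈ K) (hs : es ∈ K) (hz : ez ∈ K) (hi : ei ∈ K) : g280 ∈ K := K.mul_mem (q277 hu hs hz hi) (q233 hu hs hz hi)
theorem q281 (hu : eu ∈ K) (hs : es ∈ K) (hz : ez ∈ K) (hi : ei ∈ K) : g281 ∈ K := K.mul_mem (q278 hu hs hz hi) (q250 hu hs hz hi)
theorem q282 (hu : eu ∈ K) (hs : es ∈ K) (hz : ez ∈ K) (hi : ei ∈ K) : g282 ∈ K := K.mul_mem (q280 hu hs hz hi) (q260 hu hs hz hi)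
theorem q283 (hu : eu ∈ K) (hs : es ∈ K) (hz : ez ∈ K) (hi : ei ∈ K) : g283 ∈ K := K.inv_mem (q282 hu hs hz hi)
theorem q284 (hu : eu ∈ K) (hs : es ∈ K) (hz : ez ∈ K) (hi : ei ∈ K) : g284 ∈ K := K.mul_mem (q283 hu hs hz hi) hz
theorem q285 (hu : eu ∈ K) (hs : es ∈ K) (hz : ez ∈ K) (hi : ei ∈ K) : g285 ∈ K := K.mul_mem (q284 hu hs hz hi) (q282 hu hs hz hi)
theorem q286 (hu : eu ∈ K) (hs : es ∈ K) (hz : ez ∈ K) (hi : ei ∈ K) : g286 ∈ K := K.mul_mem hz (q285 hu hs hz hi)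
theorem q287 (hu : eu ∈ K) (hs : es ∈ K) (hz : ez ∈ K) (hi : ei ∈ K) : g287 ∈ K := K.mul_mem (q286 hu hs hz hi) (q286 hu hs hz hi)
theorem q288 (hu : eu ∈ K) (hs : es ∈ K) (hz : ez ∈ K) (hi : ei ∈ K) : g288 ∈ K := K.mul_mem (q286 hu hs hz hi) (q287 hu hs hz hi)
theorem q289 (hu : eu ∈ K) (hs : es ∈ K) (hz : ez ∈ K) (hi : ei ∈ K) : g289 ∈ K := K.mul_mem (q287 hu hs hz hi) (q287 hu hs hz hi)
theorem q290 (hu : eu ∈ K) (hs : es ∈ K) (hz : ez ∈ K) (hi : ei ∈ K) : g290 ∈ K := K.mul_mem (q289 hu hs hz hi) (q289 hu hs hz hi)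
theorem q291 (hu : eu ∈ K) (hs : es ∈ K) (hz : ez ∈ K) (hi : ei ∈ K) : g291 ∈ K := K.mul_mem (q288 hu hs hz hi) (q290 hu hs hz hi)
theorem q292 (hu : eu ∈ K) (hs : es ∈ K) (hz : ez ∈ K) (hi : ei ∈ K) : g292 ∈ K := K.mul_mem (q269 hu hs hz hi) (q276 hu hs hz hi)
theorem q293 (hu : eu ∈ K) (hs : es ∈ K) (hz : ez ∈ K) (hi : ei ∈ K) : g293 ∈ K := K.mul_mem (q281 hu hs hz hi) (q279 hu hs hz hi)
theorem q294 (hu : eu ∈ K) (hs : es ∈ K) (hz : ez ∈ K) (hi : ei ∈ K) : g294 ∈ K := K.mul_mem (q265 hu hs hz hi) (q293 hu hs hz hi)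
theorem q295 (hu : eu ∈ K) (hs : es ∈ K) (hz : ez ∈ K) (hi : ei ∈ K) : g295 ∈ K := K.mul_mem (q294 hu hs hz hi) (q282 hu hs hz hi)
theorem q296 (hu : eu ∈ K) (hs : es ∈ K) (hz : ez ∈ K) (hi : ei ∈ K) : g296 ∈ K := K.inv_mem (q295 hu hs hz hi)
theorem q297 (hu : eu ∈ K) (hs : es ∈ K) (hz : ez ∈ K) (hi : ei ∈ K) : g297 ∈ K := K.mul_mem (q296 hu hs hz hi) hz
theorem q298 (hu : eu ∈ K) (hs : es ∈ K) (hz : ez ∈ K) (hi : ei ∈ K) : g298 ∈ K := K.mul_mem (q297 hu hs hz hi) (q295 hu hs hz hi)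
theorem q299 (hu : eu ∈ K) (hs : es ∈ K) (hz : ez ∈ K) (hi : ei ∈ K) : g299 ∈ K := K.mul_mem hz (q298 hu hs hz hi)
theorem q300 (hu : eu ∈ K) (hs : es ∈ K) (hz : ez ∈ K) (hi : ei ∈ K) : g300 ∈ K := K.mul_mem (q299 hu hs hz hi) (q299 hu hs hz hi)
theorem q301 (hu : eu ∈ K) (hs : es ∈ K) (hz : ez ∈ K) (hi : ei ∈ K) : g301 ∈ K := K.mul_mem (q300 hu hs hz hi) (q300 hu hs hz hi)
theorem q302 (hu : eu ∈ K) (hs : es ∈ K) (hz : ez ∈ K) (hi : ei ∈ K) : g302 ∈ K := K.mul_mem (q300 hu hs hz hi) (q301 hu hs hz hi)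
theorem q303 (hu : eu ∈ K) (hs : es ∈ K) (hz : ez ∈ K) (hi : ei ∈ K) : g303 ∈ K := K.mul_mem (q292 hu hs hz hi) (q264 hu hs hz hi)
theorem q304 (hu : eu ∈ K) (hs : es ∈ K) (hz : ez ∈ K) (hi : ei ∈ K) : g304 ∈ K := K.inv_mem (q303 hu hs hz hi)
theorem q305 (hu : eu ∈ K) (hs : es ∈ K) (hz : ez ∈ K) (hi : ei ∈ K) : g305 ∈ K := K.mul_mem (q304 hu hs hz hi) hz
theorem q306 (hu : eu ∈ K) (hs : es ∈ K) (hz : ez ∈ K) (hi : ei ∈ K) : g306 ∈ K := K.mul_mem (q305 hu hs hz hi) (q303 hu hs hz hi)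
theorem q307 (hu : eu ∈ K) (hs : es ∈ K) (hz : ez ∈ K) (hi : ei ∈ K) : g307 ∈ K := K.mul_mem hz (q306 hu hs hz hi)
theorem q308 (hu : eu ∈ K) (hs : es ∈ K) (hz : ez ∈ K) (hi : ei ∈ K) : g308 ∈ K := K.mul_mem (q307 hu hs hz hi) (q307 hu hs hz hi)
theorem q309 (hu : eu ∈ K) (hs : es ∈ K) (hz : ez ∈ K) (hi : ei ∈ K) : g309 ∈ K := K.mul_mem (q308 hu hs hz hi) (q308 hu hs hz hi)
theorem q310 (hu : eu ∈ K) (hs : es ∈ K) (hz : ez ∈ K) (hi : ei ∈ K) : g310 ∈ K := K.mul_mem (q309 hu hs hz hi) (q309 hu hs hz hi)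
theorem q311 (hu : eu ∈ K) (hs : es ∈ K) (hz : ez ∈ K) (hi : ei ∈ K) : g311 ∈ K := K.mul_mem (q310 hu hs hz hi) (q310 hu hs hz hi)
theorem q312 (hu : eu ∈ K) (hs : es ∈ K) (hz : ez ∈ K) (hi : ei ∈ K) : g312 ∈ K := K.mul_mem (q309 hu hs hz hi) (q311 hu hs hz hi)
theorem q313 (hu : eu ∈ K) (hs : es ∈ K) (hz : ez ∈ K) (hi : ei ∈ K) : g313 ∈ K := K.mul_mem (q293 hu hs hz hi) (q282 hu hs hz hi)
theorem q314 (hu : eu ∈ K) (hs : es ∈ K) (hz : ez ∈ K) (hi : ei ∈ K) : g314 ∈ K := K.inv_mem (q313 hu hs hz hi)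
theorem q315 (hu : eu ∈ K) (hs : es ∈ K) (hz : ez ∈ K) (hi : ei ∈ K) : g315 ∈ K := K.mul_mem (q314 hu hs hz hi) hz
theorem q316 (hu : eu ∈ K) (hs : es ∈ K) (hz : ez ∈ K) (hi : ei ∈ K) : g316 ∈ K := K.mul_mem (q315 hu hs hz hi) (q313 hu hs hz hi)
theorem q317 (hu : eu ∈ K) (hs : es ∈ K) (hz : ez ∈ K) (hi : ei ∈ K) : g317 ∈ K := K.mul_mem hz (q316 hu hs hz hi)
theorem q318 (hu : eu ∈ K) (hs : es ∈ K) (hz : ez ∈ K) (hi : ei ∈ K) : g318 ∈ K := K.mul_mem (q317 hu hs hz hi) (q317 hu hs hz hi)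
theorem q319 (hu : eu ∈ K) (hs : es ∈ K) (hz : ez ∈ K) (hi : ei ∈ K) : g319 ∈ K := K.mul_mem (q318 hu hs hz hi) (q318 hu hs hz hi)
theorem q320 (hu : eu ∈ K) (hs : es ∈ K) (hz : ez ∈ K) (hi : ei ∈ K) : g320 ∈ K := K.mul_mem (q318 hu hs hz hi) (q319 hu hs hz hi)
theorem q321 (hu : eu ∈ K) (hs : es ∈ K) (hz : ez ∈ K) (hi : ei ∈ K) : g321 ∈ K := K.mul_mem (q189 hu hs hz hi) (q189 hu hs hz hi)
theorem q322 (hu : eu ∈ K) (hs : es ∈ K) (hz : ez ∈ K) (hi : ei ∈ K) : g322 ∈ K := K.mul_mem (q321 hu hs hz hi) (q312 hu hs hz hi)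
theorem q323 (hu : eu ∈ K) (hs : es ∈ K) (hz : ez ∈ K) (hi : ei ∈ K) : g323 ∈ K := K.mul_mem (q322 hu hs hz hi) (q182 hu hs hz hi)
theorem q324 (hu : eu ∈ K) (hs : es ∈ K) (hz : ez ∈ K) (hi : ei ∈ K) : g324 ∈ K := K.mul_mem (q323 hu hs hz hi) (q189 hu hs hz hi)
theorem q325 (hu : eu ∈ K) (hs : es ∈ K) (hz : ez ∈ K) (hi : ei ∈ K) : g325 ∈ K := K.mul_mem (q324 hu hs hz hi) (q189 hu hs hz hi)
theorem q326 (hu : eu ∈ K) (hs : es ∈ K) (hz : ez ∈ K) (hi : ei ∈ K) : g326 ∈ K := K.mul_mem (q325 hu hs hz hi) (q320 hu hs hz hi)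
theorem q327 (hu : eu ∈ K) (hs : es ∈ K) (hz : ez ∈ K) (hi : ei ∈ K) : g327 ∈ K := K.inv_mem (q302 hu hs hz hi)
theorem q328 (hu : eu ∈ K) (hs : es ∈ K) (hz : ez ∈ K) (hi : ei ∈ K) : g328 ∈ K := K.mul_mem (q326 hu hs hz hi) (q327 hu hs hz hi)
theorem q329 (hu : eu ∈ K) (hs : es ∈ K) (hz : ez ∈ K) (hi : ei ∈ K) : g329 ∈ K := K.mul_mem (q328 hu hs hz hi) (q182 hu hs hz hi)
theorem q330 (hu : eu ∈ K) (hs : es ∈ K) (hz : ez ∈ K) (hi : ei ∈ K) : g330 ∈ K := K.inv_mem (q291 hu hs hz hi)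
theorem q331 (hu : eu ∈ K) (hs : es ∈ K) (hz : ez ∈ K) (hi : ei ∈ K) : g331 ∈ K := K.mul_mem (q329 hu hs hz hi) (q330 hu hs hz hi)
theorem q332 (hu : eu ∈ K) (hs : es ∈ K) (hz : ez ∈ K) (hi : ei ∈ K) : g332 ∈ K := K.mul_mem (q331 hu hs hz hi) (q182 hu hs hz hi)
theorem q333 (hu : eu ∈ K) (hs : es ∈ K) (hz : ez ∈ K) (hi : ei ∈ K) : g333 ∈ K := K.mul_mem (q221 hu hs hz hi) (q332 hu hs hz hi)
theorem q334 (hu : eu ∈ K) (hs : es ∈ K) (hz : ez ∈ K) (hi : ei ∈ K) : g334 ∈ K := K.mul_mem (q189 hu hs hz hi) (q302 hu hs hz hi)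
theorem q335 (hu : eu ∈ K) (hs : es ∈ K) (hz : ez ∈ K) (hi : ei ∈ K) : g335 ∈ K := K.mul_mem (q334 hu hs hz hi) (q182 hu hs hz hi)
theorem q336 (hu : eu ∈ K) (hs : es ∈ K) (hz : ez ∈ K) (hi : ei ∈ K) : g336 ∈ K := K.mul_mem (q335 hu hs hz hi) (q189 hu hs hz hi)
theorem q337 (hu : eu ∈ K) (hs : es ∈ K) (hz : ez ∈ K) (hi : ei ∈ K) : g337 ∈ K := K.mul_mem (q336 hu hs hz hi) (q182 hu hs hz hi)
theorem q338 (hu : eu ∈ K) (hs : es ∈ K) (hz : ez ∈ K) (hi : ei ∈ K) : g338 ∈ K := K.mul_mem (q337 hu hs hz hi) (q320 hu hs hz hi)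
theorem q339 (hu : eu ∈ K) (hs : es ∈ K) (hz : ez ∈ K) (hi : ei ∈ K) : g339 ∈ K := K.mul_mem (q338 hu hs hz hi) hs
theorem q340 (hu : eu ∈ K) (hs : es ∈ K) (hz : ez ∈ K) (hi : ei ∈ K) : g340 ∈ K := K.mul_mem (q339 hu hs hz hi) hs
theorem q341 (hu : eu ∈ K) (hs : es ∈ K) (hz : ez ∈ K) (hi : ei ∈ K) : g341 ∈ K := K.mul_mem (q340 hu hs hz hi) hu
theorem q342 (hu : eu ∈ K) (hs : es ∈ K) (hz : ez ∈ K) (hi : ei ∈ K) : g342 ∈ K := K.inv_mem (q312 hu hs hz hi)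
theorem q343 (hu : eu ∈ K) (hs : es ∈ K) (hz : ez ∈ K) (hi : ei ∈ K) : g343 ∈ K := K.mul_mem (q341 hu hs hz hi) (q342 hu hs hz hi)
theorem q344 (hu : eu ∈ K) (hs : es ∈ K) (hz : ez ∈ K) (hi : ei ∈ K) : g344 ∈ K := K.mul_mem (q220 hu hs hz hi) (q343 hu hs hz hi)
theorem q345 (hu : eu ∈ K) (hs : es ∈ K) (hz : ez ∈ K) (hi : ei ∈ K) : g345 ∈ K := K.inv_mem (q344 hu hs hz hi)
theorem q346 (hu : eu ∈ K) (hs : es ∈ K) (hz : ez ∈ K) (hi : ei ∈ K) : g346 ∈ K := K.mul_mem hu hz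
theorem q347 (hu : eu ∈ K) (hs : es ∈ K) (hz : ez ∈ K) (hi : ei ∈ K) : g347 ∈ K := K.mul_mem hz hi
theorem q348 (hu : eu ∈ K) (hs : es ∈ K) (hz : ez ∈ K) (hi : ei ∈ K) : g348 ∈ K := K.mul_mem hi hz
theorem q349 (hu : eu ∈ K) (hs : es ∈ K) (hz : ez ∈ K) (hi : ei ∈ K) : g349 ∈ K := K.mul_mem hs hi
theorem q350 (hu : eu ∈ K) (hs : es ∈ K) (hz : ez ∈ K) (hi : ei ∈ K) : g350 ∈ K := K.mul_mem hs hz
theorem q351 (hu : eu ∈ K) (hs : es ∈ K) (hz : ez ∈ K) (hi : ei ∈ K) : g351 ∈ K := K.mul_mem (q222 hu hs hz hi) (q349 hu hs hz hi)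
theorem q352 (hu : eu ∈ K) (hs : es ∈ K) (hz : ez ∈ K) (hi : ei ∈ K) : g352 ∈ K := K.mul_mem (q351 hu hs hz hi) (q222 hu hs hz hi)
theorem q353 (hu : eu ∈ K) (hs : es ∈ K) (hz : ez ∈ K) (hi : ei ∈ K) : g353 ∈ K := K.mul_mem (q347 hu hs hz hi) (q350 hu hs hz hi)
theorem q354 (hu : eu ∈ K) (hs : es ∈ K) (hz : ez ∈ K) (hi : ei ∈ K) : g354 ∈ K := K.mul_mem (q352 hu hs hz hi) (q353 hu hs hz hi)
theorem q355 (hu : eu ∈ K) (hs : es ∈ K) (hz : ez ∈ K) (hi : ei ∈ K) : g355 ∈ K := K.mul_mem (q346 hu hs hz hi) (q347 hu hs hz hi)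
theorem q356 (hu : eu ∈ K) (hs : es ∈ K) (hz : ez ∈ K) (hi : ei ∈ K) : g356 ∈ K := K.mul_mem (q354 hu hs hz hi) (q355 hu hs hz hi)
theorem q357 (hu : eu ∈ K) (hs : es ∈ K) (hz : ez ∈ K) (hi : ei ∈ K) : g357 ∈ K := K.mul_mem (q217 hu hs hz hi) (q345 hu hs hz hi)
theorem q358 (hu : eu ∈ K) (hs : es ∈ K) (hz : ez ∈ K) (hi : ei ∈ K) : g358 ∈ K := K.mul_mem (q357 hu hs hz hi) (q333 hu hs hz hi)
theorem q359 (hu : eu ∈ K) (hs : es ∈ K) (hz : ez ∈ K) (hi : ei ∈ K) : g359 ∈ K := K.mul_mem (q358 hu hs hz hi) (q344 hu hs hz hi)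
theorem q360 (hu : eu ∈ K) (hs : es ∈ K) (hz : ez ∈ K) (hi : ei ∈ K) : g360 ∈ K := K.mul_mem (q359 hu hs hz hi) (q333 hu hs hz hi)
theorem q361 (hu : eu ∈ K) (hs : es ∈ K) (hz : ez ∈ K) (hi : ei ∈ K) : g361 ∈ K := K.mul_mem (q360 hu hs hz hi) (q344 hu hs hz hi)
theorem q362 (hu : eu ∈ K) (hs : es ∈ K) (hz : ez ∈ K) (hi : ei ∈ K) : g362 ∈ K := K.mul_mem (q361 hu hs hz hi) (q333 hu hs hz hi)
theorem q363 (hu : eu ∈ K) (hs : es ∈ K) (hz : ez ∈ K) (hi : ei ∈ K) : g363 ∈ K := K.mul_mem (q362 hu hs hz hi) (q345 hu hs hz hi)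
theorem q364 (hu : eu ∈ K) (hs : es ∈ K) (hz : ez ∈ K) (hi : ei ∈ K) : g364 ∈ K := K.mul_mem (q363 hu hs hz hi) (q333 hu hs hz hi)
theorem q365 (hu : eu ∈ K) (hs : es ∈ K) (hz : ez ∈ K) (hi : ei ∈ K) : g365 ∈ K := K.mul_mem (q364 hu hs hz hi) (q345 hu hs hz hi)
theorem q366 (hu : eu ∈ K) (hs : es ∈ K) (hz : ez ∈ K) (hi : ei ∈ K) : g366 ∈ K := K.mul_mem (q365 hu hs hz hi) (q333 hu hs hz hi)
theorem q367 (hu : eu ∈ K) (hs : es ∈ K) (hz : ez ∈ K) (hi : ei ∈ K) : g367 ∈ K := K.mul_mem (q366 hu hs hz hi) (q344 hu hs hz hi)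
theorem q368 (hu : eu ∈ K) (hs : es ∈ K) (hz : ez ∈ K) (hi : ei ∈ K) : g368 ∈ K := K.mul_mem (q367 hu hs hz hi) (q333 hu hs hz hi)
theorem q369 (hu : eu ∈ K) (hs : es ∈ K) (hz : ez ∈ K) (hi : ei ∈ K) : g369 ∈ K := K.mul_mem (q368 hu hs hz hi) (q344 hu hs hz hi)
theorem q370 (hu : eu ∈ K) (hs : es ∈ K) (hz : ez ∈ K) (hi : ei ∈ K) : g370 ∈ K := K.mul_mem (q369 hu hs hz hi) (q333 hu hs hz hi)
theorem q371 (hu : eu ∈ K) (hs : es ∈ K) (hz : ez ∈ K) (hi : ei ∈ K) : g371 ∈ K := K.mul_mem (q370 hu hs hz hi) (q344 hu hs hz hi)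
theorem q372 (hu : eu ∈ K) (hs : es ∈ K) (hz : ez ∈ K) (hi : ei ∈ K) : g372 ∈ K := K.mul_mem (q371 hu hs hz hi) (q333 hu hs hz hi)
theorem q373 (hu : eu ∈ K) (hs : es ∈ K) (hz : ez ∈ K) (hi : ei ∈ K) : g373 ∈ K := K.mul_mem (q372 hu hs hz hi) (q345 hu hs hz hi)
theorem q374 (hu : eu ∈ K) (hs : es ∈ K) (hz : ez ∈ K) (hi : ei ∈ K) : g374 ∈ K := K.mul_mem (q373 hu hs hz hi) (q333 hu hs hz hi)
theorem q375 (hu : eu ∈ K) (hs : es ∈ K) (hz : ez ∈ K) (hi : ei ∈ K) : g375 ∈ K := K.mul_mem (q374 hu hs hz hi) (q345 hu hs hz hi)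
theorem q376 (hu : eu ∈ K) (hs : es ∈ K) (hz : ez ∈ K) (hi : ei ∈ K) : g376 ∈ K := K.mul_mem (q375 hu hs hz hi) (q333 hu hs hz hi)
theorem q377 (hu : eu ∈ K) (hs : es ∈ K) (hz : ez ∈ K) (hi : ei ∈ K) : g377 ∈ K := K.mul_mem (q376 hu hs hz hi) (q345 hu hs hz hi)
theorem q378 (hu : eu ∈ K) (hs : es ∈ K) (hz : ez ∈ K) (hi : ei ∈ K) : g378 ∈ K := K.mul_mem (q377 hu hs hz hi) (q333 hu hs hz hi)
theorem q379 (hu : eu ∈ K) (hs : es ∈ K) (hz : ez ∈ K) (hi : ei ∈ K) : g379 ∈ K := K.mul_mem (q378 hu hs hz hi) (q344 hu hs hz hi)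
theorem q380 (hu : eu ∈ K) (hs : es ∈ K) (hz : ez ∈ K) (hi : ei ∈ K) : g380 ∈ K := K.mul_mem (q379 hu hs hz hi) (q333 hu hs hz hi)
theorem q381 (hu : eu ∈ K) (hs : es ∈ K) (hz : ez ∈ K) (hi : ei ∈ K) : g381 ∈ K := K.mul_mem (q380 hu hs hz hi) (q344 hu hs hz hi)
theorem q382 (hu : eu ∈ K) (hs : es ∈ K) (hz : ez ∈ K) (hi : ei ∈ K) : g382 ∈ K := K.mul_mem (q381 hu hs hz hi) (q333 hu hs hz hi)
theorem q383 (hu : eu ∈ K) (hs : es ∈ K) (hz : ez ∈ K) (hi : ei ∈ K) : g383 ∈ K := K.mul_mem (q382 hu hs hz hi) (q345 hu hs hz hi)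
theorem q384 (hu : eu ∈ K) (hs : es ∈ K) (hz : ez ∈ K) (hi : ei ∈ K) : g384 ∈ K := K.mul_mem (q383 hu hs hz hi) (q333 hu hs hz hi)
theorem q385 (hu : eu ∈ K) (hs : es ∈ K) (hz : ez ∈ K) (hi : ei ∈ K) : g385 ∈ K := K.mul_mem (q384 hu hs hz hi) (q345 hu hs hz hi)
theorem q386 (hu : eu ∈ K) (hs : es ∈ K) (hz : ez ∈ K) (hi : ei ∈ K) : g386 ∈ K := K.mul_mem (q385 hu hs hz hi) (q333 hu hs hz hi)
theorem q387 (hu : eu ∈ K) (hs : es ∈ K) (hz : ez ∈ K) (hi : ei ∈ K) : g387 ∈ K := K.mul_mem (q386 hu hs hz hi) (q344 hu hs hz hi)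
theorem q388 (hu : eu ∈ K) (hs : es ∈ K) (hz : ez ∈ K) (hi : ei ∈ K) : g388 ∈ K := K.inv_mem (q356 hu hs hz hi)
theorem q389 (hu : eu ∈ K) (hs : es ∈ K) (hz : ez ∈ K) (hi : ei ∈ K) : g389 ∈ K := K.mul_mem (q388 hu hs hz hi) (q387 hu hs hz hi)
theorem q390 (hu : eu ∈ K) (hs : es ∈ K) (hz : ez ∈ K) (hi : ei ∈ K) : g390 ∈ K := K.mul_mem (q389 hu hs hz hi) (q356 hu hs hz hi)
theorem q391 (hu : eu ∈ K) (hs : es ∈ K) (hz : ez ∈ K) (hi : ei ∈ K) : g391 ∈ K := K.mul_mem (q348 hu hs hz hi) (q356 hu hs hz hi)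
theorem q392 (hu : eu ∈ K) (hs : es ∈ K) (hz : ez ∈ K) (hi : ei ∈ K) : g392 ∈ K := K.inv_mem (q391 hu hs hz hi)
theorem q393 (hu : eu ∈ K) (hs : es ∈ K) (hz : ez ∈ K) (hi : ei ∈ K) : g393 ∈ K := K.mul_mem (q392 hu hs hz hi) (q390 hu hs hz hi)
theorem q394 (hu : eu ∈ K) (hs : es ∈ K) (hz : ez ∈ K) (hi : ei ∈ K) : g394 ∈ K := K.mul_mem (q393 hu hs hz hi) (q391 hu hs hz hi)
theorem q395 (hu : eu ∈ K) (hs : es ∈ K) (hz : ez ∈ K) (hi : ei ∈ K) : g395 ∈ K := K.mul_mem (q394 hu hs hz hi) hz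
theorem q396 (hu : eu ∈ K) (hs : es ∈ K) (hz : ez ∈ K) (hi : ei ∈ K) : g396 ∈ K := K.mul_mem (q395 hu hs hz hi) (q395 hu hs hz hi)
theorem q397 (hu : eu ∈ K) (hs : es ∈ K) (hz : ez ∈ K) (hi : ei ∈ K) : g397 ∈ K := K.mul_mem (q395 hu hs hz hi) (q396 hu hs hz hi)
theorem q398 (hu : eu ∈ K) (hs : es ∈ K) (hz : ez ∈ K) (hi : ei ∈ K) : g398 ∈ K := K.mul_mem (q396 hu hs hz hi) (q396 hu hs hz hi)
theorem q399 (hu : eu ∈ K) (hs : es ∈ K) (hz : ez ∈ K) (hi : ei ∈ K) : g399 ∈ K := K.mul_mem (q397 hu hs hz hi) (q398 hu hs hz hi)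
theorem q400 (hu : eu ∈ K) (hs : es ∈ K) (hz : ez ∈ K) (hi : ei ∈ K) : g400 ∈ K := K.mul_mem (q398 hu hs hz hi) (q398 hu hs hz hi)
theorem q401 (hu : eu ∈ K) (hs : es ∈ K) (hz : ez ∈ K) (hi : ei ∈ K) : g401 ∈ K := K.mul_mem (q399 hu hs hz hi) (q400 hu hs hz hi)
theorem q402 (hu : eu ∈ K) (hs : es ∈ K) (hz : ez ∈ K) (hi : ei ∈ K) : g402 ∈ K := K.inv_mem (q401 hu hs hz hi)
theorem q403 (hu : eu ∈ K) (hs : es ∈ K) (hz : ez ∈ K) (hi : ei ∈ K) : g403 ∈ K := K.mul_mem (q391 hu hs hz hi) (q402 hu hs hz hi)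
theorem q404 (hu : eu ∈ K) (hs : es ∈ K) (hz : ez ∈ K) (hi : ei ∈ K) : g404 ∈ K := K.mul_mem (q215 hu hs hz hi) (q345 hu hs hz hi)
theorem q405 (hu : eu ∈ K) (hs : es ∈ K) (hz : ez ∈ K) (hi : ei ∈ K) : g405 ∈ K := K.mul_mem (q404 hu hs hz hi) (q333 hu hs hz hi)
theorem q406 (hu : eu ∈ K) (hs : es ∈ K) (hz : ez ∈ K) (hi : ei ∈ K) : g406 ∈ K := K.mul_mem (q405 hu hs hz hi) (q344 hu hs hz hi)
theorem q407 (hu : eu ∈ K) (hs : es ∈ K) (hz : ez ∈ K) (hi : ei ∈ K) : g407 ∈ K := K.mul_mem (q406 hu hs hz hi) (q333 hu hs hz hi)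
theorem q408 (hu : eu ∈ K) (hs : es ∈ K) (hz : ez ∈ K) (hi : ei ∈ K) : g408 ∈ K := K.mul_mem (q407 hu hs hz hi) (q345 hu hs hz hi)
theorem q409 (hu : eu ∈ K) (hs : es ∈ K) (hz : ez ∈ K) (hi : ei ∈ K) : g409 ∈ K := K.mul_mem (q408 hu hs hz hi) (q333 hu hs hz hi)
theorem q410 (hu : eu ∈ K) (hs : es ∈ K) (hz : ez ∈ K) (hi : ei ∈ K) : g410 ∈ K := K.mul_mem (q409 hu hs hz hi) (q344 hu hs hz hi)
theorem q411 (hu : eu ∈ K) (hs : es ∈ K) (hz : ez ∈ K) (hi : ei ∈ K) : g411 ∈ K := K.mul_mem (q410 hu hs hz hi) (q333 hu hs hz hi)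
theorem q412 (hu : eu ∈ K) (hs : es ∈ K) (hz : ez ∈ K) (hi : ei ∈ K) : g412 ∈ K := K.mul_mem (q411 hu hs hz hi) (q344 hu hs hz hi)
theorem q413 (hu : eu ∈ K) (hs : es ∈ K) (hz : ez ∈ K) (hi : ei ∈ K) : g413 ∈ K := K.mul_mem (q412 hu hs hz hi) (q333 hu hs hz hi)
theorem q414 (hu : eu ∈ K) (hs : es ∈ K) (hz : ez ∈ K) (hi : ei ∈ K) : g414 ∈ K := K.mul_mem (q413 hu hs hz hi) (q344 hu hs hz hi)
theorem q415 (hu : eu ∈ K) (hs : es ∈ K) (hz : ez ∈ K) (hi : ei ∈ K) : g415 ∈ K := K.mul_mem (q414 hu hs hz hi) (q333 hu hs hz hi)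
theorem q416 (hu : eu ∈ K) (hs : es ∈ K) (hz : ez ∈ K) (hi : ei ∈ K) : g416 ∈ K := K.mul_mem (q415 hu hs hz hi) (q345 hu hs hz hi)
theorem q417 (hu : eu ∈ K) (hs : es ∈ K) (hz : ez ∈ K) (hi : ei ∈ K) : g417 ∈ K := K.mul_mem (q416 hu hs hz hi) (q333 hu hs hz hi)
theorem q418 (hu : eu ∈ K) (hs : es ∈ K) (hz : ez ∈ K) (hi : ei ∈ K) : g418 ∈ K := K.mul_mem (q417 hu hs hz hi) (q344 hu hs hz hi)
theorem q419 (hu : eu ∈ K) (hs : es ∈ K) (hz : ez ∈ K) (hi : ei ∈ K) : g419 ∈ K := K.mul_mem (q418 hu hs hz hi) (q333 hu hs hz hi)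
theorem q420 (hu : eu ∈ K) (hs : es ∈ K) (hz : ez ∈ K) (hi : ei ∈ K) : g420 ∈ K := K.mul_mem (q419 hu hs hz hi) (q345 hu hs hz hi)
theorem q421 (hu : eu ∈ K) (hs : es ∈ K) (hz : ez ∈ K) (hi : ei ∈ K) : g421 ∈ K := K.mul_mem (q420 hu hs hz hi) (q333 hu hs hz hi)
theorem q422 (hu : eu ∈ K) (hs : es ∈ K) (hz : ez ∈ K) (hi : ei ∈ K) : g422 ∈ K := K.mul_mem (q421 hu hs hz hi) (q344 hu hs hz hi)
theorem q423 (hu : eu ∈ K) (hs : es ∈ K) (hz : ez ∈ K) (hi : ei ∈ K) : g423 ∈ K := K.mul_mem (q422 hu hs hz hi) (q333 hu hs hz hi)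
theorem q424 (hu : eu ∈ K) (hs : es ∈ K) (hz : ez ∈ K) (hi : ei ∈ K) : g424 ∈ K := K.mul_mem (q423 hu hs hz hi) (q345 hu hs hz hi)
theorem q425 (hu : eu ∈ K) (hs : es ∈ K) (hz : ez ∈ K) (hi : ei ∈ K) : g425 ∈ K := K.mul_mem (q424 hu hs hz hi) (q333 hu hs hz hi)
theorem q426 (hu : eu ∈ K) (hs : es ∈ K) (hz : ez ∈ K) (hi : ei ∈ K) : g426 ∈ K := K.mul_mem (q425 hu hs hz hi) (q344 hu hs hz hi)
theorem q427 (hu : eu ∈ K) (hs : es ∈ K) (hz : ez ∈ K) (hi : ei ∈ K) : g427 ∈ K := K.mul_mem (q426 hu hs hz hi) (q333 hu hs hz hi)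
theorem q428 (hu : eu ∈ K) (hs : es ∈ K) (hz : ez ∈ K) (hi : ei ∈ K) : g428 ∈ K := K.mul_mem (q427 hu hs hz hi) (q345 hu hs hz hi)
theorem q429 (hu : eu ∈ K) (hs : es ∈ K) (hz : ez ∈ K) (hi : ei ∈ K) : g429 ∈ K := K.mul_mem (q428 hu hs hz hi) (q333 hu hs hz hi)
theorem q430 (hu : eu ∈ K) (hs : es ∈ K) (hz : ez ∈ K) (hi : ei ∈ K) : g430 ∈ K := K.mul_mem (q429 hu hs hz hi) (q345 hu hs hz hi)
theorem q431 (hu : eu ∈ K) (hs : es ∈ K) (hz : ez ∈ K) (hi : ei ∈ K) : g431 ∈ K := K.mul_mem (q430 hu hs hz hi) (q333 hu hs hz hi)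
theorem q432 (hu : eu ∈ K) (hs : es ∈ K) (hz : ez ∈ K) (hi : ei ∈ K) : g432 ∈ K := K.mul_mem (q431 hu hs hz hi) (q345 hu hs hz hi)
theorem q433 (hu : eu ∈ K) (hs : es ∈ K) (hz : ez ∈ K) (hi : ei ∈ K) : g433 ∈ K := K.mul_mem (q432 hu hs hz hi) (q333 hu hs hz hi)
theorem q434 (hu : eu ∈ K) (hs : es ∈ K) (hz : ez ∈ K) (hi : ei ∈ K) : g434 ∈ K := K.mul_mem (q433 hu hs hz hi) (q344 hu hs hz hi)
theorem q435 (hu : eu ∈ K) (hs : es ∈ K) (hz : ez ∈ K) (hi : ei ∈ K) : g435 ∈ K := K.mul_mem (q434 hu hs hz hi) (q333 hu hs hz hi)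
theorem q436 (hu : eu ∈ K) (hs : es ∈ K) (hz : ez ∈ K) (hi : ei ∈ K) : g436 ∈ K := K.mul_mem (q435 hu hs hz hi) (q345 hu hs hz hi)
theorem q437 (hu : eu ∈ K) (hs : es ∈ K) (hz : ez ∈ K) (hi : ei ∈ K) : g437 ∈ K := K.mul_mem (q436 hu hs hz hi) (q333 hu hs hz hi)
theorem q438 (hu : eu ∈ K) (hs : es ∈ K) (hz : ez ∈ K) (hi : ei ∈ K) : g438 ∈ K := K.mul_mem (q437 hu hs hz hi) (q344 hu hs hz hi)
theorem q439 (hu : eu ∈ K) (hs : es ∈ K) (hz : ez ∈ K) (hi : ei ∈ K) : g439 ∈ K := K.mul_mem (q403 hu hs hz hi) (q438 hu hs hz hi)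
theorem q440 (hu : eu ∈ K) (hs : es ∈ K) (hz : ez ∈ K) (hi : ei ∈ K) : g440 ∈ K := K.inv_mem (q403 hu hs hz hi)
theorem q441 (hu : eu ∈ K) (hs : es ∈ K) (hz : ez ∈ K) (hi : ei ∈ K) : g441 ∈ K := K.mul_mem (q439 hu hs hz hi) (q440 hu hs hz hi)
theorem gx_mem (hf : Faithful) (hu : eu ∈ K) (hs : es ∈ K) (hz : ez ∈ K) (hi : ei ∈ K) : gx ∈ K :=
  R.eq' hf r333 R_x (by decide +kernel) ▸ (q333 hu hs hz hi)
theorem gy_mem (hf : Faithful) (hu : eu ∈ K) (hs : es ∈ K) (hz : ez ∈ K) (hi : ei ∈ K) : gy ∈ K :=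
  R.eq' hf r344 R_y (by decide +kernel) ▸ (q344 hu hs hz hi)
theorem gt_mem (hf : Faithful) (hu : eu ∈ K) (hs : es ∈ K) (hz : ez ∈ K) (hi : ei ∈ K) : gt ∈ K :=
  R.eq' hf r441 R_t (by decide +kernel) ▸ (q441 hu hs hz hi)
end mem

/-- images of the basis under conjugation by `x`, as bit masks -/
def Mx : List ℕ := [2, 1, 8, 4, 64, 128, 16, 32, 512, 256, 1184]
/-- images of the basis under conjugation by `y`, as bit masks -/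
def My : List ℕ := [1, 16, 2, 256, 4, 8, 370, 134, 32, 1876, 512]
/-- images of the basis under conjugation by `u`, as bit masks -/
def Mu : List ℕ := [1832, 1707, 786, 1827, 1739, 837, 1738, 776, 824, 849, 215]
/-- images of the basis under conjugation by `s`, as bit masks -/
def Ms : List ℕ := [1901, 1764, 640, 1844, 232, 1205, 416, 1585, 990, 1259, 1637]
end Cfsg.Agent.H46.J4Out
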