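import Cfsg.Agent.H46.J4Out.Bridge
import Cfsg.Agent.H56.J4.Upper

/-!
The twenty orbits of `M₂₄` on the cosets of `HSub`, and the conclusion for automorphisms.
-/

set_option autoImplicit false
set_option maxRecDepth 100000

namespace Cfsg.Agent.H46.J4Out

open Cfsg Cfsg.Agent.Golay
open scoped Pointwise

open Cfsg.Agent.H56.J4 in
theorem cov_all (g : J) :
    Cov H56.J4.phi HH H56.J4.rep Up.nodeList g := by
  have hC := H56.J4.cen
  have hcov : ∀ i ∈ Up.nodeList, ∀ m : M24, Cov H56.J4.phi HH H56.J4.rep Up.nodeList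
      (H56.J4.rep i * tau H56.J4.phi jt S0 ((m : Equiv.Perm GolayPt) • S0)) := by
    intro i hi m
    obtain ⟨p, hp, e⟩ := orbit_table m
    rw [e]
    exact H56.J4.cover i hi p hp
  have key : ∀ x : J, x ∈ Subgroup.closure (Set.range H56.J4.phi ∪ {jt}) →
      ∀ a, Cov H56.J4.phi HH H56.J4.rep Up.nodeList a →
        Cov H56.J4.phi HH H56.J4.rep Up.nodeList (a * x) ∧
        Cov H56.J4.phi HH H56.J4.rep Up.nodeList (a * x⁻¹) := by
    intro x hx
    have ht : ∀ a, Cov H56.J4.phi HH H56.J4.rep Up.nodeList a →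
        Cov H56.J4.phi HH H56.J4.rep Up.nodeList (a * jt) := by
      rintro a ⟨i, hi, m, hm⟩
      obtain ⟨j, hj, m', hm'⟩ := hcov i hi m
      refine ⟨j, hj, m' * m, ?_⟩
      rw [tau_base hC] at hm'
      refine (hm.mul jt).trans ?_
      have := hm'.mul (H56.J4.phi m)
      rw [map_mul, ← mul_assoc]
      convert this using 1
      group
    induction hx using Subgroup.closure_induction with
    | mem y hy =>
      intro a ha
      rcases hy with ⟨m, rfl⟩ | hy
      · obtain ⟨i, hi, n, hn⟩ := ha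
        exact ⟨⟨i, hi, n * m, by simpa [mul_assoc] using hn.mul (H56.J4.phi m)⟩,
          ⟨i, hi, n * m⁻¹, by simpa [mul_assoc] using hn.mul (H56.J4.phi m)⁻¹⟩⟩
      · rw [Set.mem_singleton_iff] at hy
        subst hy
        rw [jt_inv]
        exact ⟨ht a ha, ht a ha⟩
    | one => intro a ha; simpa using ha
    | mul y z _ _ hy hz =>
      intro a ha
      rw [← mul_assoc, mul_inv_rev, ← mul_assoc]
      exact ⟨(hz _ (hy a ha).1).1, (hy _ (hz a ha).2).2⟩
    | inv y _ hy => intro a ha; rw [inv_inv]; exact ⟨(hy a ha).2, (hy a ha).1⟩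
  have := (key g (gen_top ▸ Subgroup.mem_top g) 1
    ⟨0, by decide, 1, by simp [REq, rep_zero]⟩).1
  simpa using this

theorem hh_eq (hf : Faithful) : H56.J4.hh = eF 0 := by
  refine Eq.trans ?_ (eF_zero_eq hf)
  simp [H56.J4.hh, H56.J4.vH, H56.J4.jl_zero, H56.J4.jl_one, H56.J4.jl_two, pow_succ, mul_assoc,
    H56.J4.jx, H56.J4.jy, H56.J4.jt, gx, gy, gt]

theorem hSub_eq_HH (hf : Faithful) : HSub = H56.J4.HH := by
  rw [H56.J4.HH, hh_eq hf]
  rfl

/-- nodes as a function on `Fin 20` -/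
def nodeAt (i : Fin 20) : ℕ := H56.J4.Up.nodeList.getD i.val 0

theorem exists_nodeAt : ∀ j ∈ H56.J4.Up.nodeList, ∃ i : Fin 20, nodeAt i = j := by decide

theorem nodeAt_mem : ∀ i : Fin 20, nodeAt i ∈ H56.J4.Up.nodeList := by decide

open Cfsg.Agent.H56.J4 in
theorem orbit_cover (p : J ⧸ HH) :
    ∃ i : Fin 20, p ∈ MulAction.orbit H56.J4.phi.range
      (((H56.J4.rep (nodeAt i))⁻¹ : J) : J ⧸ HH) := by
  obtain ⟨g, rfl⟩ := QuotientGroup.mk_surjective p
  obtain ⟨j, hj, m, hm⟩ := cov_all g⁻¹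
  obtain ⟨i, rfl⟩ := exists_nodeAt j hj
  refine ⟨i, ⟨⟨(H56.J4.phi m)⁻¹, inv_mem ⟨m, rfl⟩⟩, ?_⟩⟩
  change (((H56.J4.phi m)⁻¹ * (H56.J4.rep (nodeAt i))⁻¹ : J) : J ⧸ HH) = (g : J ⧸ HH)
  rw [QuotientGroup.eq]
  have := HH.inv_mem hm
  simpa [REq, mul_assoc] using this

open Cfsg.Agent.H56.J4 in
theorem orbit_card (i : Fin 20) :
    Nat.card (MulAction.orbit H56.J4.phi.range (((H56.J4.rep (nodeAt i))⁻¹ : J) : J ⧸ HH)) ≤
      H56.J4.bound (nodeAt i) := by
  refine le_trans ?_ (H56.J4.stab_bound _ (nodeAt_mem i))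
  set r := H56.J4.rep (nodeAt i)
  rw [Subgroup.index]
  refine Nat.card_le_card_of_surjective
    (Quotient.lift (fun m => (⟨((H56.J4.phi m * r⁻¹ : J) : J ⧸ HH), ⟨⟨H56.J4.phi m, m, rfl⟩, rfl⟩⟩ :
      MulAction.orbit H56.J4.phi.range ((r⁻¹ : J) : J ⧸ HH))) ?_) ?_
  · intro a b hab
    rw [← Quotient.eq_iff_equiv, Quotient.eq, QuotientGroup.leftRel_apply] at hab
    have h : REq HH (r * H56.J4.phi (a⁻¹ * b)) r := hab
    refine Subtype.ext ?_
    rw [QuotientGroup.eq]
    simpa [REq, mul_assoc] using h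
  · rintro ⟨p, ⟨⟨_, m, rfl⟩, rfl⟩⟩
    exact ⟨QuotientGroup.mk m, rfl⟩

/-- Every automorphism of the presented `J4` is inner, given its order and simplicity. -/
theorem card_out_of (hfin : Finite J) (hcard : Nat.card J = 86775571046077562880)
    (hsimple : IsSimpleGroup J) : Nat.card (Cfsg.Out J) = 1 := by
  have hH := hSub_eq_HH (faithful hsimple)
  exact Hyp.card_out
    { finite := hfin, card := hcard, simple := hsimple, phi := H56.J4.phi
      phi_x := by
        rw [xP_eq]; exact H45.J4Main.exists_embedding.choose_spec.2.1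
      phi_y := by
        rw [yP_eq]; exact H45.J4Main.exists_embedding.choose_spec.2.2.1
      phi_range := le_of_eq H56.J4.phi_range
      m := 20
      rep := fun i => (H56.J4.rep (nodeAt i))⁻¹
      size := fun i => H56.J4.bound (nodeAt i)
      cover := by rw [hH]; exact orbit_cover
      size_le := by rw [hH]; exact orbit_card
      size_sum := by decide +kernel
      fix23 := by decide +kernel
      fix11 := by decide +kernel }

end Cfsg.Agent.H46.J4Out
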